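import Mathlib.Algebra.Homology.DerivedCategory.Ext.ExactSequences
import Mathlib.Algebra.Homology.DerivedCategory.Ext.EnoughInjectives
import Mathlib.CategoryTheory.Abelian.GrothendieckCategory.EnoughInjectives
import Mathlib.CategoryTheory.Abelian.GrothendieckCategory.HasExt
import Mathlib.CategoryTheory.Abelian.GrothendieckAxioms.Basic
import Mathlib.CategoryTheory.Abelian.FunctorCategory
import Mathlib.CategoryTheory.Limits.Types.Filtered
import Mathlib.Algebra.Category.Grp.FilteredColimits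
import Mathlib.Algebra.Category.Grp.Colimits

/-!
`Ext` groups out of a fixed object and filtered colimits in a Grothendieck abelian category.
-/

universe u v

open CategoryTheory CategoryTheory.Limits CategoryTheory.Abelian MorphismProperty ZeroObject

namespace Groth.Agent.CohColim46

variable {A : Type (u + 1)} [Category.{u} A] [Abelian A] [HasExt.{u} A]

/-- Elementwise form of: `Ext^n(X, -)` commutes with the colimit of every diagram of shape `I`. -/
def ExtComm (I : Type u) [SmallCategory I] [HasColimitsOfShape I A] (X : A) (n : ℕ) : Prop :=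
  ∀ K : I ⥤ A,
    (∀ y : Ext X (colimit K) n,
      ∃ i, ∃ x : Ext X (K.obj i) n, x.comp (Ext.mk₀ (colimit.ι K i)) (add_zero n) = y) ∧
    ∀ i (x : Ext X (K.obj i) n), x.comp (Ext.mk₀ (colimit.ι K i)) (add_zero n) = 0 →
      ∃ (j : I) (f : i ⟶ j), x.comp (Ext.mk₀ (K.map f)) (add_zero n) = 0

variable {I : Type u} [SmallCategory I]

lemma comp_mk₀_mk₀ {X Y Z W : A} {n : ℕ} (x : Ext X Y n) (f : Y ⟶ Z) (g : Z ⟶ W) :
    (x.comp (Ext.mk₀ f) (add_zero n)).comp (Ext.mk₀ g) (add_zero n) =
      x.comp (Ext.mk₀ (f ≫ g)) (add_zero n) := by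
  rw [Ext.comp_assoc_of_second_deg_zero, Ext.mk₀_comp_mk₀]

lemma comp_square {X Y Z Z' W : A} {n : ℕ} (x : Ext X Y n) {f : Y ⟶ Z} {g : Z ⟶ W} {f' : Y ⟶ Z'}
    {g' : Z' ⟶ W} (h : f ≫ g = f' ≫ g') :
    (x.comp (Ext.mk₀ f) (add_zero n)).comp (Ext.mk₀ g) (add_zero n) =
      (x.comp (Ext.mk₀ f') (add_zero n)).comp (Ext.mk₀ g') (add_zero n) := by
  rw [comp_mk₀_mk₀, comp_mk₀_mk₀, h]

lemma sub_comp {X Y Z : A} {a b c : ℕ} (x x' : Ext X Y a) (y : Ext Y Z b) (h : a + b = c) :
    (x - x').comp y h = x.comp y h - x'.comp y h := by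
  rw [sub_eq_add_neg, Ext.add_comp, Ext.neg_comp, sub_eq_add_neg]

lemma comp_sub {X Y Z : A} {a b c : ℕ} (x : Ext X Y a) (y y' : Ext Y Z b) (h : a + b = c) :
    x.comp (y - y') h = x.comp y h - x.comp y' h := by
  rw [sub_eq_add_neg, Ext.comp_add, Ext.comp_neg, sub_eq_add_neg]

/-- A functor to abelian groups preserves filtered colimits given the elementwise criterion. -/
lemma preservesColimitsOfShape_of_elementwise [IsFiltered I] {B : Type*} [Category B]
    [HasColimitsOfShape I B] (G : B ⥤ AddCommGrpCat.{u})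
    (h : ∀ K : I ⥤ B, (∀ y : G.obj (colimit K), ∃ i x, G.map (colimit.ι K i) x = y) ∧
      ∀ i (x : G.obj (K.obj i)), G.map (colimit.ι K i) x = 0 →
        ∃ (j : I) (f : i ⟶ j), G.map (K.map f) x = 0) :
    PreservesColimitsOfShape I G := by
  have := reflectsColimitsOfShape_of_reflectsIsomorphisms (J := I)
    (G := forget AddCommGrpCat.{u})
  refine ⟨fun {K} => preservesColimit_of_preserves_colimit_cocone (colimit.isColimit K)
    (isColimitOfReflects (forget AddCommGrpCat.{u}) (Types.FilteredColimit.isColimitOf' _ _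
      (fun y => ?_) fun i x x' e => ?_))⟩
  · obtain ⟨i, x, hx⟩ := (h K).1 y
    exact ⟨i, x, hx.symm⟩
  · obtain ⟨j, f, hf⟩ := (h K).2 i (x - x' : G.obj (K.obj i))
      ((map_sub _ _ _).trans (sub_eq_zero.2 e))
    exact ⟨j, f, show G.map (K.map f) x = G.map (K.map f) x' from
      sub_eq_zero.1 ((map_sub _ _ _).symm.trans hf)⟩

theorem ExtComm.preservesColimitsOfShape [IsFiltered I] [HasColimitsOfShape I A] {X : A} {n : ℕ}
    (h : ExtComm I X n) :
    PreservesColimitsOfShape I ((Abelian.extFunctor.{u} n).obj (Opposite.op X)) :=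
  preservesColimitsOfShape_of_elementwise _ h

lemma ExtComm.of_iso [HasColimitsOfShape I A] {X Y : A} {n : ℕ} (h : ExtComm I X n) (e : X ≅ Y) :
    ExtComm I Y n := by
  intro K
  have key : ∀ {Z : A} (y : Ext Y Z n),
      (Ext.mk₀ e.inv).comp ((Ext.mk₀ e.hom).comp y (zero_add n)) (zero_add n) = y := fun y => by
    rw [Ext.mk₀_comp_mk₀_assoc, e.inv_hom_id, Ext.mk₀_id_comp]
  refine ⟨fun y => ?_, fun i x hx => ?_⟩
  · obtain ⟨i, x, hx⟩ := (h K).1 ((Ext.mk₀ e.hom).comp y (zero_add n))
    refine ⟨i, (Ext.mk₀ e.inv).comp x (zero_add n), ?_⟩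
    rw [Ext.comp_assoc_of_third_deg_zero, hx, key]
  · obtain ⟨j, f, hf⟩ := (h K).2 i ((Ext.mk₀ e.hom).comp x (zero_add n)) (by
      rw [Ext.comp_assoc_of_third_deg_zero, hx, Ext.comp_zero])
    refine ⟨j, f, ?_⟩
    rw [← key (x.comp (Ext.mk₀ (K.map f)) (add_zero n)), ← Ext.comp_assoc_of_third_deg_zero, hf,
      Ext.comp_zero]

section Third

variable [IsFiltered I] [HasColimitsOfShape I A]

/-- If `Ext^*(X, -)` commutes with filtered colimits for the first two terms of a short exact
sequence, so does it for the third. -/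
theorem ExtComm.of_shortExact {S : ShortComplex A} (hS : S.ShortExact)
    (h₁ : ∀ n, ExtComm I S.X₁ n) (h₂ : ∀ n, ExtComm I S.X₂ n) : ∀ n, ExtComm I S.X₃ n := by
  intro n K
  cases n with
  | zero =>
    have inj : ∀ {Z : A} (z : Ext S.X₃ Z 0),
        (Ext.mk₀ S.g).comp z (zero_add 0) = 0 → z = 0 := fun z hz => by
      obtain ⟨φ, rfl⟩ := (Ext.mk₀_bijective _ _).2 z
      have := hS.epi_g
      rw [Ext.mk₀_comp_mk₀, Ext.mk₀_eq_zero_iff] at hz
      rw [Ext.mk₀_eq_zero_iff, ← cancel_epi S.g, hz, comp_zero]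
    refine ⟨fun y => ?_, fun i x hx => ?_⟩
    · obtain ⟨i, x₂, hx₂⟩ := (h₂ 0 K).1 ((Ext.mk₀ S.g).comp y (zero_add 0))
      obtain ⟨j, f, hf⟩ := (h₁ 0 K).2 i ((Ext.mk₀ S.f).comp x₂ (zero_add 0)) (by
        rw [Ext.comp_assoc_of_third_deg_zero, hx₂, Ext.mk₀_comp_mk₀_assoc, S.zero, Ext.mk₀_zero,
          Ext.zero_comp])
      rw [Ext.comp_assoc_of_third_deg_zero] at hf
      obtain ⟨x₃, hx₃⟩ := Ext.contravariant_sequence_exact₂ hS _ _ hf
      refine ⟨j, x₃, sub_eq_zero.1 (inj _ ?_)⟩
      rw [comp_sub, ← Ext.comp_assoc_of_third_deg_zero, hx₃, comp_mk₀_mk₀, colimit.w, hx₂,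
        sub_self]
    · obtain ⟨j, f, hf⟩ := (h₂ 0 K).2 i ((Ext.mk₀ S.g).comp x (zero_add 0)) (by
        rw [Ext.comp_assoc_of_third_deg_zero, hx, Ext.comp_zero])
      exact ⟨j, f, inj _ (by rw [← Ext.comp_assoc_of_third_deg_zero, hf])⟩
  | succ n =>
    have e : 1 + n = n + 1 := add_comm 1 n
    refine ⟨fun y => ?_, fun i x hx => ?_⟩
    · obtain ⟨i, x₂, hx₂⟩ := (h₂ (n + 1) K).1 ((Ext.mk₀ S.g).comp y (zero_add _))
      obtain ⟨j, f, hf⟩ := (h₁ (n + 1) K).2 i ((Ext.mk₀ S.f).comp x₂ (zero_add _)) (by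
        rw [Ext.comp_assoc_of_third_deg_zero, hx₂, Ext.mk₀_comp_mk₀_assoc, S.zero, Ext.mk₀_zero,
          Ext.zero_comp])
      rw [Ext.comp_assoc_of_third_deg_zero] at hf
      obtain ⟨x₃, hx₃⟩ := Ext.contravariant_sequence_exact₂ hS _ _ hf
      obtain ⟨z, hz⟩ := Ext.contravariant_sequence_exact₃ hS _
        (y - x₃.comp (Ext.mk₀ (colimit.ι K j)) (add_zero _)) (by
          rw [comp_sub, ← Ext.comp_assoc_of_third_deg_zero, hx₃, comp_mk₀_mk₀, colimit.w, hx₂,
            sub_self]) e
      obtain ⟨k, w, rfl⟩ := (h₁ n K).1 z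
      let a := IsFiltered.leftToMax j k
      let b := IsFiltered.rightToMax j k
      refine ⟨IsFiltered.max j k, x₃.comp (Ext.mk₀ (K.map a)) (add_zero _) +
        (hS.extClass.comp w e).comp (Ext.mk₀ (K.map b)) (add_zero _), ?_⟩
      rw [Ext.add_comp, comp_mk₀_mk₀, comp_mk₀_mk₀, colimit.w, colimit.w,
        Ext.comp_assoc_of_third_deg_zero, hz, add_sub_cancel]
    · obtain ⟨j, f, hf⟩ := (h₂ (n + 1) K).2 i ((Ext.mk₀ S.g).comp x (zero_add _)) (by
        rw [Ext.comp_assoc_of_third_deg_zero, hx, Ext.comp_zero])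
      rw [Ext.comp_assoc_of_third_deg_zero] at hf
      obtain ⟨z, hz⟩ := Ext.contravariant_sequence_exact₃ hS _ _ hf e
      obtain ⟨w, hw⟩ := Ext.contravariant_sequence_exact₁ hS _
        (z.comp (Ext.mk₀ (colimit.ι K j)) (add_zero _)) e (by
          rw [← Ext.comp_assoc_of_third_deg_zero, hz, comp_mk₀_mk₀, colimit.w, hx])
      obtain ⟨k, w', rfl⟩ := (h₂ n K).1 w
      let a := IsFiltered.leftToMax j k
      let b := IsFiltered.rightToMax j k
      obtain ⟨l, g, hg⟩ := (h₁ n K).2 (IsFiltered.max j k)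
        (z.comp (Ext.mk₀ (K.map a)) (add_zero _) -
          ((Ext.mk₀ S.f).comp w' (zero_add _)).comp (Ext.mk₀ (K.map b)) (add_zero _)) (by
          rw [sub_comp, comp_mk₀_mk₀, comp_mk₀_mk₀, colimit.w, colimit.w,
            Ext.comp_assoc_of_third_deg_zero, hw, sub_self])
      refine ⟨l, f ≫ a ≫ g, ?_⟩
      rw [K.map_comp, ← comp_mk₀_mk₀, ← hz, Ext.comp_assoc_of_third_deg_zero, K.map_comp,
        ← comp_mk₀_mk₀]
      rw [sub_comp, sub_eq_zero] at hg
      rw [hg, Ext.comp_assoc_of_third_deg_zero, Ext.comp_assoc_of_third_deg_zero,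
        ← Ext.comp_assoc hS.extClass (Ext.mk₀ S.f) _ (add_zero 1) (zero_add n) (by omega),
        hS.extClass_comp, Ext.zero_comp]

end Third

section Injective

variable [IsGrothendieckAbelian.{u} A]

variable (A) in
/-- A functorial factorization providing injective embeddings. -/
noncomputable def injData : FunctorialFactorizationData (monomorphisms A) (monomorphisms A).rlp :=
  functorialFactorizationData _ _

variable (A) in
/-- The morphisms to zero, as a functor. -/
noncomputable def toZeroFun : A ⥤ Arrow A where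
  obj F := Arrow.mk (0 : F ⟶ 0)
  map g := Arrow.homMk g (𝟙 _) (by simp)

variable (A) in
/-- A functorial injective embedding: the target. -/
noncomputable def injFun : A ⥤ A := toZeroFun A ⋙ (injData A).Z

variable (A) in
/-- A functorial injective embedding: the map. -/
noncomputable def injEmb : 𝟭 A ⟶ injFun A := Functor.whiskerLeft (toZeroFun A) (injData A).i

instance mono_injEmb (F : A) : Mono ((injEmb A).app F) := (injData A).hi _

instance injective_injFun (F : A) : Injective ((injFun A).obj F) := by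
  refine (injective_iff_rlp_monomorphisms_zero _).2 ?_
  exact cast (congrArg (fun q => (monomorphisms A).rlp q) ((isZero_zero A).eq_of_tgt _ _))
    ((injData A).hp ((toZeroFun A).obj F))

/-- Embedding a diagram into injectives. -/
noncomputable def diagSES (K : I ⥤ A) : ShortComplex (I ⥤ A) :=
  ShortComplex.mk (Functor.whiskerLeft K (injEmb A)) (cokernel.π _) (cokernel.condition _)

omit [HasExt.{u} A] in
lemma diagSES_shortExact (K : I ⥤ A) : (diagSES K).ShortExact := by
  have : ∀ i, Mono ((diagSES K).f.app i) := fun i => mono_injEmb (K.obj i)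
  exact { exact := ShortComplex.exact_cokernel _, mono_f := NatTrans.mono_of_mono_app _,
          epi_g := by unfold diagSES; infer_instance }

/-- The map from a stage to the colimit sequence. -/
noncomputable def diagToColim (K : I ⥤ A) (i : I) :
    (diagSES K).map ((evaluation I A).obj i) ⟶ (diagSES K).map colim where
  τ₁ := colimit.ι (diagSES K).X₁ i
  τ₂ := colimit.ι (diagSES K).X₂ i
  τ₃ := colimit.ι (diagSES K).X₃ i
  comm₁₂ := colimit.ι_map (diagSES K).f i
  comm₂₃ := colimit.ι_map (diagSES K).g i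

omit [IsGrothendieckAbelian.{u} A] in
lemma comp_extClass_comp {X : A} {S T : ShortComplex A} (hS : S.ShortExact) (hT : T.ShortExact)
    (φ : S ⟶ T) {n : ℕ} (x : Ext X S.X₃ n) :
    (x.comp hS.extClass (rfl : n + 1 = n + 1)).comp (Ext.mk₀ φ.τ₁) (add_zero _) =
      (x.comp (Ext.mk₀ φ.τ₃) (add_zero n)).comp hT.extClass (rfl : n + 1 = n + 1) := by
  rw [Ext.comp_assoc x hS.extClass (Ext.mk₀ φ.τ₁) rfl (add_zero 1) (by omega),
    ShortComplex.ShortExact.extClass_naturality hS hT φ,
    Ext.comp_assoc x (Ext.mk₀ φ.τ₃) hT.extClass (add_zero n) (zero_add 1) (by omega)]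

/-- If `Hom(X, -)` commutes with filtered colimits and filtered colimits of injectives are
`X`-acyclic, all `Ext^n(X, -)` commute with filtered colimits. -/
theorem extComm_of_acyclic [IsFiltered I] {X : A} (h₀ : ExtComm I X 0)
    (hac : ∀ K : I ⥤ A, (∀ i, Injective (K.obj i)) →
      ∀ q, Subsingleton (Ext X (colimit K) (q + 1))) : ∀ n, ExtComm I X n := by
  intro n
  induction n with
  | zero => exact h₀
  | succ p ih =>
    intro K
    have hS : ((diagSES K).map (colim : (I ⥤ A) ⥤ A)).ShortExact :=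
      (diagSES_shortExact K).map_of_exact _
    have hSi : ∀ i, ((diagSES K).map ((evaluation I A).obj i)).ShortExact := fun i =>
      (diagSES_shortExact K).map_of_exact _
    refine ⟨fun y => ?_, fun i x hx => ?_⟩
    · have : Subsingleton (Ext X ((diagSES K).map colim).X₂ (p + 1)) :=
        hac (diagSES K).X₂ (fun i => injective_injFun (K.obj i)) p
      obtain ⟨z, rfl⟩ := Ext.covariant_sequence_exact₁ X hS y (Subsingleton.elim _ _) rfl
      obtain ⟨i, w, rfl⟩ := (ih (diagSES K).X₃).1 z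
      exact ⟨i, w.comp (hSi i).extClass rfl, comp_extClass_comp (hSi i) hS (diagToColim K i) w⟩
    · obtain ⟨z, rfl⟩ : ∃ z : Ext X ((diagSES K).X₃.obj i) p,
          z.comp (hSi i).extClass (rfl : p + 1 = p + 1) = x :=
        Ext.covariant_sequence_exact₁ X (hSi i) x
          (@Ext.eq_zero_of_injective _ _ _ _ _ _ _ (injective_injFun (K.obj i)) _) rfl
      have h0 := (comp_extClass_comp (hSi i) hS (diagToColim K i) z).symm.trans hx
      obtain ⟨w, hw⟩ := Ext.covariant_sequence_exact₃ X hS _ rfl h0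
      obtain ⟨j, wj, rfl⟩ := (ih (diagSES K).X₂).1 w
      let a := IsFiltered.leftToMax i j
      let b := IsFiltered.rightToMax i j
      have hw' : (wj.comp (Ext.mk₀ (colimit.ι (diagSES K).X₂ j)) (add_zero p)).comp
          (Ext.mk₀ (colim.map (diagSES K).g)) (add_zero p) =
          z.comp (Ext.mk₀ (colimit.ι (diagSES K).X₃ i)) (add_zero p) := hw
      obtain ⟨l, e, he⟩ := (ih (diagSES K).X₃).2 (IsFiltered.max i j)
        (z.comp (Ext.mk₀ ((diagSES K).X₃.map a)) (add_zero p) -
          (wj.comp (Ext.mk₀ ((diagSES K).X₂.map b)) (add_zero p)).comp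
            (Ext.mk₀ ((diagSES K).g.app _)) (add_zero p)) (by
          rw [sub_comp, comp_mk₀_mk₀, colimit.w, ← hw',
            comp_square _ (colimit.ι_map (diagSES K).g _).symm]
          rw [comp_mk₀_mk₀ wj ((diagSES K).X₂.map b), colimit.w, sub_self])
      refine ⟨l, a ≫ e, ?_⟩
      refine (comp_extClass_comp (hSi i) (hSi l)
        ((diagSES K).mapNatTrans ((evaluation I A).map (a ≫ e))) z).trans ?_
      change (z.comp (Ext.mk₀ ((diagSES K).X₃.map (a ≫ e))) (add_zero p)).comp
        (hSi l).extClass (rfl : p + 1 = p + 1) = 0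
      rw [sub_comp, sub_eq_zero,
        comp_square _ ((diagSES K).g.naturality e).symm] at he
      rw [Functor.map_comp, ← comp_mk₀_mk₀, he,
        Ext.comp_assoc_of_second_deg_zero]
      erw [ShortComplex.ShortExact.comp_extClass (hSi l)]
      exact Ext.comp_zero _ _ _ _ _

end Injective

end Groth.Agent.CohColim46
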