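import Groth.Agent.CohColim46.Main
import Groth.Prelude.Def_CohCx

/-!
The class attached to finite coverings of a class of objects of a site with fibre products.
-/

universe u

open CategoryTheory CategoryTheory.Limits Opposite

namespace Groth.Agent.CohColim46

variable {C : Type u} [SmallCategory C] [HasPullbacks C] {J : GrothendieckTopology C} (B : Set C)

/-- A presheaf represented by a member of `B`. -/
def MemRepr (P : Cᵒᵖ ⥤ Type u) : Prop := ∃ U ∈ B, Nonempty (P ≅ yoneda.obj U)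

variable {B}

lemma memRepr_comp {U : C} {P : Cᵒᵖ ⥤ Type u} (e : P ≅ yoneda.obj U) {m : ℕ} {ι : Type u}
    (Y : ι → Over U) (σ : Fin m → ι) {n : ℕ} (a : Fin (n + 1) → Fin m)
    (h : (∏ᶜ fun k => Y (σ (a k))).left ∈ B) :
    MemRepr B (comp (L := fun k => yoneda.obj (Y (σ k)).left)
      (fun k => yoneda.map (Y (σ k)).hom ≫ e.inv) a) := by
  refine ⟨_, h, ?_⟩
  let Q := ∏ᶜ fun k => Y (σ (a k))
  let f : ∀ k, yoneda.obj (Y (σ k)).left ⟶ P := fun k => yoneda.map (Y (σ k)).hom ≫ e.inv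
  let φ : yoneda.obj Q.left ⟶ comp f a :=
    { app := fun V => ↾fun g => ⟨fun j => g ≫ (Pi.π (fun k => Y (σ (a k))) j).left, fun i j => by
        change e.inv.app V ((g ≫ _) ≫ (Y (σ (a i))).hom) = e.inv.app V ((g ≫ _) ≫ (Y (σ (a j))).hom)
        rw [Category.assoc, Category.assoc, Over.w, Over.w]⟩
      naturality := fun V W g => by
        apply ConcreteCategory.hom_ext
        intro x
        exact Subtype.ext (funext fun j => Category.assoc _ _ _) }
  suffices ∀ V, IsIso (φ.app V) from ⟨(@asIso _ _ _ _ φ (NatIso.isIso_of_isIso_app φ)).symm⟩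
  intro V
  refine (isIso_iff_bijective _).2 ⟨fun g g' hgg => ?_, fun x => ?_⟩
  · have hj : ∀ j, g ≫ (Pi.π (fun k => Y (σ (a k))) j).left =
        g' ≫ (Pi.π (fun k => Y (σ (a k))) j).left := fun j => congrFun (congrArg Subtype.val hgg) j
    have hh : g' ≫ Q.hom = g ≫ Q.hom := by
      rw [← Over.w (Pi.π (fun k => Y (σ (a k))) 0), reassoc_of% hj 0]
    have := congrArg (fun φ => φ.left) (show (Over.homMk g rfl : Over.mk (g ≫ Q.hom) ⟶ Q) =
      Over.homMk g' hh from Pi.hom_ext _ _ fun j => Over.OverMorphism.ext (hj j))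
    exact this
  · have hinj : Function.Injective (e.inv.app V) :=
      ((isIso_iff_bijective (e.inv.app V)).1 inferInstance).1
    have hx : ∀ j, x.1 j ≫ (Y (σ (a j))).hom = x.1 0 ≫ (Y (σ (a 0))).hom := fun j =>
      hinj (x.2 j 0)
    let g : Over.mk (x.1 0 ≫ (Y (σ (a 0))).hom) ⟶ Q := Pi.lift fun j => Over.homMk (x.1 j) (hx j)
    refine ⟨g.left, Subtype.ext (funext fun j => ?_)⟩
    have : g ≫ Pi.π (fun k => Y (σ (a k))) j = Over.homMk (x.1 j) (hx j) := Pi.lift_π _ _
    exact congrArg (fun φ => φ.left) this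

variable (B) in
/-- The class of a site with finite coverings. -/
noncomputable def siteClass (Cov : ∀ (U : C) (ι : Type u), (ι → Over U) → Prop)
    (h1 : ∀ (U : C) (ι : Type u) (Y : ι → Over U), Cov U ι Y → Finite ι ∧ U ∈ B ∧
      Sieve.ofArrows (fun i => (Y i).left) (fun i => (Y i).hom) ∈ J U ∧
      ∀ (p : ℕ) (a : Fin (p + 1) → ι), (∏ᶜ fun k => Y (a k)).left ∈ B)
    (h2 : ∀ U ∈ B, ∀ T ∈ J U, ∃ (ι : Type u) (Y : ι → Over U), Cov U ι Y ∧ ∀ i, T.arrows (Y i).hom) :
    CohClass J where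
  mem := MemRepr B
  cov _ m L f := (∀ k, MemRepr B (L k)) ∧ JLS J f ∧
    ∀ (n : ℕ) (a : Fin (n + 1) → Fin m), MemRepr B (comp f a)
  cov_jls _ h := h.2.1
  cov_mem _ h := h.1
  cov_comp _ _ h := h.2.2
  refine_cov {P} hP {β} N M π _ y hy := by
    obtain ⟨U, hU, ⟨e⟩⟩ := hP
    let q : P.obj (op U) := e.inv.app (op U) (show (yoneda.obj U).obj (op U) from 𝟙 U)
    obtain ⟨ι, Y, hY, hT⟩ := h2 U hU _ (hy U q)
    obtain ⟨hfin, -, hcov, hprod⟩ := h1 U ι Y hY
    obtain ⟨m, ⟨σ⟩⟩ := Finite.exists_equiv_fin ι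
    let f : ∀ k : Fin m, yoneda.obj (Y (σ.symm k)).left ⟶ P := fun k =>
      yoneda.map (Y (σ.symm k)).hom ≫ e.inv
    have hcomp : ∀ (n : ℕ) (a : Fin (n + 1) → Fin m), MemRepr B (comp f a) := fun n a =>
      memRepr_comp e Y σ.symm a (hprod n fun k => σ.symm (a k))
    have hq : ∀ {V : C} (g : V ⟶ U),
        P.map g.op q = e.inv.app (op V) (show (yoneda.obj U).obj (op V) from g) := fun {V} g => by
      refine (e.inv.naturality_apply g.op _).symm.trans (congrArg (e.inv.app (op V)) ?_)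
      exact Category.comp_id g
    refine ⟨m, fun k => yoneda.obj (Y (σ.symm k)).left, f, ⟨fun k => ?_, fun V s => ?_, hcomp⟩,
      fun k => ?_⟩
    · refine ⟨(∏ᶜ fun j : Fin 1 => Y (σ.symm ((fun _ => k) j))).left,
        hprod 0 (fun _ => σ.symm k), ⟨yoneda.mapIso ((Over.forget U).mapIso ?_).symm⟩⟩
      exact productUniqueIso (fun j : Fin 1 => Y (σ.symm ((fun _ => k) j)))
    · refine J.superset_covering ?_ (J.pullback_stable
        (show V ⟶ U from e.hom.app (op V) s) hcov)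
      rintro W g hg
      obtain ⟨_, l, _, ⟨i⟩, hl⟩ := hg
      obtain ⟨k, rfl⟩ := σ.symm.surjective i
      refine ⟨k, l, ?_⟩
      refine (congrArg (e.inv.app (op W)) hl).trans ?_
      have h := e.inv.naturality_apply g.op (e.hom.app (op V) s)
      rw [Iso.hom_inv_id_app_apply] at h
      exact h
    · obtain ⟨b, t, ht⟩ := hT (σ.symm k)
      refine ⟨b, yonedaEquiv.symm t, yonedaEquiv.injective ?_⟩
      rw [yonedaEquiv_comp, Equiv.apply_symm_apply]
      refine ht.trans ?_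
      rw [← y.naturality_apply, hq]
      refine (congrArg (fun z => y.app _ (e.inv.app _ z)) ?_)
      exact (Category.id_comp _).symm

/-- Cohomology of members of `B` commutes with filtered colimits. -/
theorem preservesColimit_of_finite_cov (Cov : ∀ (U : C) (ι : Type u), (ι → Over U) → Prop)
    (h1 : ∀ (U : C) (ι : Type u) (Y : ι → Over U), Cov U ι Y → Finite ι ∧ U ∈ B ∧
      Sieve.ofArrows (fun i => (Y i).left) (fun i => (Y i).hom) ∈ J U ∧
      ∀ (p : ℕ) (a : Fin (p + 1) → ι), (∏ᶜ fun k => Y (a k)).left ∈ B)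
    (h2 : ∀ U ∈ B, ∀ T ∈ J U, ∃ (ι : Type u) (Y : ι → Over U), Cov U ι Y ∧ ∀ i, T.arrows (Y i).hom)
    {U : C} (hU : U ∈ B) (p : ℕ) (I : Type u) [SmallCategory I] [IsFiltered I] :
    PreservesColimitsOfShape I ((Sheaf.cohomologyPresheafFunctor J p).flip.obj (op U)) :=
  preservesColimitsOfShape_of_elementwise _
    ((siteClass B Cov h1 h2).extComm (P := yoneda.obj U) ⟨U, hU, ⟨Iso.refl _⟩⟩ p)

end Groth.Agent.CohColim46
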