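import Groth.Agent.CohColim46.Topos
import Groth.Agent.Topos46.SiteQc
import Groth.Agent.SiteCoh.FreeSet
import Groth.Agent.SiteCoh.RpushColim
import Groth.Prelude.Def_ToposFin2
import Groth.Prelude.Def_CohCx
import Mathlib.CategoryTheory.Limits.Types.Limits

/-!
Filtered colimits and cohomology in algebraic and coherent topoi.
-/

universe u

open CategoryTheory CategoryTheory.Limits CategoryTheory.Abelian Opposite ToposFin
open Groth.Agent.Topos46

namespace Groth.Agent.CohColim46

variable {C : Type u} [SmallCategory C] {J : GrothendieckTopology C}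

lemma closedUnderPullbacks_coherent (hE : IsAlgebraic J) ⦃K L M : Sh J⦄ (a : K ⟶ M) (b : L ⟶ M)
    (hK : IsCoherent K) (hL : IsCoherent L) (hM : IsCoherent M) :
    ∃ (Q : Sh J) (p : Q ⟶ K) (q : Q ⟶ L), IsCoherent Q ∧ IsPullback p q a b := by
  obtain ⟨S, hqc, hgen, hpb, heq⟩ := hE
  refine ⟨pullback a b, pullback.fst a b, pullback.snd a b, ⟨hM.2 _ _ a b hK.1 hL.1, ?_⟩,
    IsPullback.of_hasPullback a b⟩
  have hb : IsQSHom b := isQSHom_of_prod_qs (genBy_of_isGenerating hgen) hqc
    (fun K L hK hL => isQS_prod_mem hqc hgen hpb heq hK hL) b hL.2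
  exact isQS_of_isQSHom (isQSHom_of_isPullback hb (IsPullback.of_hasPullback a b).flip) hK.2

lemma genBy_coherent (hE : IsAlgebraic J) : GenBy (IsCoherent (J := J)) := by
  obtain ⟨S, hqc, hgen, hpb, -⟩ := hE
  exact (genBy_of_isGenerating hgen).mono fun K hK => isCoherent_mem hqc hgen hpb hK

/-- Cohomology with respect to a coherent object commutes with filtered colimits. -/
theorem extComm_coherent (hE : IsAlgebraic J) {I : Type u} [SmallCategory I] [IsFiltered I]
    {K : Sh J} (hK : IsCoherent K) (n : ℕ) : ExtComm I (CohClass.fsh J K.obj) n :=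
  extComm_sheaf (T := IsCoherent (J := J)) (genBy_coherent hE) (fun _ h => h.1)
    (closedUnderPullbacks_coherent hE) hK n

/-- The constant sheaf `ℤ` is free on the terminal sheaf. -/
noncomputable def constFreeTerminalIso :
    CohClass.fsh J (⊤_ (Sh J)).obj ≅
      (constantSheaf J AddCommGrpCat.{u}).obj (AddCommGrpCat.of (ULift.{u} ℤ)) :=
  (presheafToSheaf J AddCommGrpCat.{u}).mapIso <| NatIso.ofComponents (fun V =>
    have : Unique ((⊤_ (Sh J)).obj.obj V) :=
      (Types.isTerminalEquivUnique _) (terminalIsTerminal.isTerminalObj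
        (sheafToPresheaf J (Type u) ⋙ (evaluation _ _).obj V) _)
    AddEquiv.toAddCommGrpIso ((FreeAbelianGroup.uniqueEquiv _).trans AddEquiv.ulift.symm))
    fun g => AddCommGrpCat.hom_ext (FreeAbelianGroup.lift_ext _ _ fun x =>
      congrArg ULift.up.{u} (((congrArg (FreeAbelianGroup.lift fun _ => (1 : ℤ))
        (FreeAbelianGroup.map_of_apply (f := fun y => (⊤_ (Sh J)).obj.map g y) x)).trans
          (FreeAbelianGroup.lift_apply_of _ _)).trans (FreeAbelianGroup.lift_apply_of _ _).symm))

theorem extComm_terminal (hE : IsAlgebraic J) (hT : IsCoherent (⊤_ (Sh J))) {I : Type u}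
    [SmallCategory I] [IsFiltered I] (n : ℕ) :
    ExtComm I ((constantSheaf J AddCommGrpCat.{u}).obj (AddCommGrpCat.of (ULift.{u} ℤ))) n :=
  (extComm_coherent hE hT n).of_iso constFreeTerminalIso

theorem preservesColimitsOfShape_functorH (hE : IsAlgebraic J) (hT : IsCoherent (⊤_ (Sh J)))
    (I : Type u) [SmallCategory I] [IsFiltered I] (n : ℕ) :
    PreservesColimitsOfShape I (Sheaf.functorH J n : Sheaf J AddCommGrpCat.{u} ⥤ AddCommGrpCat.{u}) :=
  preservesColimitsOfShape_of_elementwise _ (extComm_terminal hE hT n)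

theorem preservesColimitsOfShape_rpush {D : Type u} [SmallCategory D] {K : GrothendieckTopology D}
    (hE : IsAlgebraic J) (u₀ : D ⥤ C) [u₀.IsContinuous K J]
    (hu : ∀ V : D, IsCoherent (eps J (u₀.obj V))) (I : Type u) [SmallCategory I] [IsFiltered I]
    (q : ℕ) : PreservesColimitsOfShape I (CohSite.Rpush J K u₀ q) := by
  refine ⟨fun {F} => SiteCoh.rpush_preservesColimit u₀ F q fun V =>
    ⟨PUnit, fun _ => V, fun _ => 𝟙 V, ?_, fun _ => ?_⟩⟩
  · refine K.superset_covering (fun W g _ => ?_) (K.top_mem V)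
    exact ⟨V, g, 𝟙 V, ⟨⟨⟩⟩, Category.comp_id g⟩
  · have h : ExtComm I (CohCx.freeSheaf J (u₀.obj V)) q :=
      (extComm_coherent hE (hu V) q).of_iso (SiteCoh.freeAbReprIso J (u₀.obj V))
    have := preservesColimitsOfShape_of_elementwise
      ((Sheaf.cohomologyPresheafFunctor J q).flip.obj (op (u₀.obj V))) h
    infer_instance

theorem preservesColimitsOfShape_HZ (hE : IsAlgebraic J) (hT : IsCoherent (⊤_ (Sh J))) {U : Sh J}
    [Mono (terminal.from U)] (hU : IsCoherent U) (I : Type u) [SmallCategory I] [IsFiltered I]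
    (q : ℕ) : PreservesColimitsOfShape I (HZFunctor U q) := by
  have : Mono ((sheafToPresheaf J (Type u)).map (terminal.from U)) := inferInstance
  have : Mono (Functor.whiskerRight (terminal.from U).hom AddCommGrpCat.free.{u}) :=
    inferInstanceAs (Mono (((Functor.whiskeringRight _ _ _).obj AddCommGrpCat.free.{u}).map
      (terminal.from U).hom))
  have : Mono ((freeAb J).map (terminal.from U)) :=
    inferInstanceAs (Mono ((presheafToSheaf J AddCommGrpCat.{u}).map
      (Functor.whiskerRight (terminal.from U).hom AddCommGrpCat.free.{u})))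
  have hS : (ShortComplex.mk ((freeAb J).map (terminal.from U)) (cokernel.π _)
      (cokernel.condition _)).ShortExact := { exact := ShortComplex.exact_cokernel _ }
  exact (ExtComm.of_shortExact hS (fun n => extComm_coherent hE hU n)
    (fun n => extComm_coherent hE hT n) q).preservesColimitsOfShape

theorem subsingleton_HK_colimit (S : Set (Sh J)) (hqc : ∀ K ∈ S, IsQC K) (hgen : IsGenerating S)
    (hpb : ClosedUnderPullbacks S) {I : Type u} [SmallCategory I] [IsFiltered I]
    (D : I ⥤ Sheaf J AddCommGrpCat.{u}) {K : Sh J} (hK : K ∈ S) (q : ℕ)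
    (hD : ∀ i, Subsingleton (CohCx.HK K (D.obj i) q)) :
    Subsingleton (CohCx.HK K (colimit D) q) := by
  refine subsingleton_of_forall_eq 0 fun y => ?_
  obtain ⟨i, x, rfl⟩ := (extComm_sheaf (T := fun W => W ∈ S) (genBy_of_isGenerating hgen)
    hqc (fun _ _ _ a b hK hL hM => hpb a b hK hL hM) (I := I) hK q D).1 y
  rw [(hD i).elim x 0, Ext.zero_comp]

end Groth.Agent.CohColim46
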