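import Groth.Agent.CohColim46.Nerve
import Groth.Prelude.Def_CohSite
import Mathlib.CategoryTheory.Sites.LeftExact
import Mathlib.CategoryTheory.Sites.EpiMono
import Mathlib.CategoryTheory.Sites.LocallySurjective

/-!
Classes of presheaves of sets suitable for Cech arguments with finite families, descent along
jointly locally surjective families and elementwise exactness.
-/

universe u

open CategoryTheory CategoryTheory.Limits Opposite

namespace Groth.Agent.CohColim46

variable {C : Type u} [SmallCategory C]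

section Decomposition

variable {m : ℕ} {P : Cᵒᵖ ⥤ Type u} {L : Fin m → Cᵒᵖ ⥤ Type u} (f : ∀ k, L k ⟶ P) {n : ℕ}
  (a : Fin (n + 1) → Fin m)

/-- A component of the fibre power of a disjoint union: an iterated fibre product. -/
def comp : Cᵒᵖ ⥤ Type u where
  obj V := {x : ∀ j, (L (a j)).obj V // ∀ i j, (f (a i)).app V (x i) = (f (a j)).app V (x j)}
  map {_ _} g := ↾fun x => ⟨fun j => (L (a j)).map g (x.1 j), fun i j =>
    ((f _).naturality_apply g _).trans ((congrArg (P.map g) (x.2 i j)).trans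
      ((f _).naturality_apply g _).symm)⟩
  map_id V := by
    apply ConcreteCategory.hom_ext
    intro x
    exact Subtype.ext (funext fun j => ConcreteCategory.congr_hom ((L _).map_id V) _)
  map_comp g h := by
    apply ConcreteCategory.hom_ext
    intro x
    exact Subtype.ext (funext fun j => ConcreteCategory.congr_hom ((L _).map_comp g h) _)

/-- The inclusion of a component. -/
def compι : comp f a ⟶ fam f n where
  app _ := ↾fun x => ⟨fun j => ⟨a j, x.1 j⟩, x.2⟩
  naturality _ _ _ := rfl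

/-- `comp` with the whole list of components. -/
abbrev compAll (n : ℕ) : (Fin (n + 1) → Fin m) → (Cᵒᵖ ⥤ Type u) := fun a => comp f a

lemma compι_bijective (n : ℕ) (V : Cᵒᵖ) :
    Function.Bijective fun p : Σ a : Fin (n + 1) → Fin m, (comp f a).obj V =>
      (compι f p.1).app V p.2 := by
  refine Function.bijective_iff_has_inverse.2
    ⟨fun y => ⟨fun j => (y.1 j).1, ⟨fun j => (y.1 j).2, y.2⟩⟩, fun p => rfl, fun y => rfl⟩

end Decomposition

/-- A finite decomposition of a presheaf of sets. -/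
structure Decomp (Q : Cᵒᵖ ⥤ Type u) (κ : Type) where
  /-- The parts. -/
  part : κ → Cᵒᵖ ⥤ Type u
  /-- The inclusions. -/
  incl : ∀ k, part k ⟶ Q
  bij : ∀ V, Function.Bijective fun p : Σ k, (part k).obj V => (incl p.1).app V p.2

/-- The decomposition of a fibre power. -/
def famDecomp {m : ℕ} {P : Cᵒᵖ ⥤ Type u} {L : Fin m → Cᵒᵖ ⥤ Type u} (f : ∀ k, L k ⟶ P) (n : ℕ) :
    Decomp (fam f n) (Fin (n + 1) → Fin m) :=
  ⟨compAll f n, fun a => compι f a, compι_bijective f n⟩

namespace Decomp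

variable {Q : Cᵒᵖ ⥤ Type u} {κ : Type} (δ : Decomp Q κ) {M M' : Cᵒᵖ ⥤ AddCommGrpCat.{u}}

/-- Restriction of a map to a part. -/
noncomputable abbrev res (φ : Zf Q ⟶ M) (k : κ) : Zf (δ.part k) ⟶ M :=
  Functor.whiskerRight (δ.incl k) AddCommGrpCat.free.{u} ≫ φ

include δ in
lemma hom_ext {φ ψ : Zf Q ⟶ M} (h : ∀ k, δ.res φ k = δ.res ψ k) : φ = ψ := gen_ext fun V q => by
  obtain ⟨⟨k, x⟩, rfl⟩ := (δ.bij V).2 q
  have e := congrArg (fun χ => gen χ V x) (h k)
  simp only [gen_whisker] at e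
  exact e

lemma exists_glue (φ : ∀ k, Zf (δ.part k) ⟶ M) : ∃ ψ : Zf Q ⟶ M, ∀ k, δ.res ψ k = φ k := by
  let e := fun V => Equiv.ofBijective _ (δ.bij V)
  have key : ∀ V (p : Σ k, (δ.part k).obj V), (e V).symm ((δ.incl p.1).app V p.2) = p :=
    fun V p => (e V).symm_apply_apply p
  refine ⟨homOfFun (fun V q => gen (φ ((e V).symm q).1) V ((e V).symm q).2) fun V W g q => ?_,
    fun k => gen_ext fun V x => ?_⟩
  · obtain ⟨⟨k, x⟩, rfl⟩ := (δ.bij V).2 q
    dsimp only
    rw [key V ⟨k, x⟩, ← (δ.incl k).naturality_apply g x, key W ⟨k, (δ.part k).map g x⟩]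
    exact gen_map _ g x
  · rw [gen_whisker, gen_homOfFun, key V ⟨k, x⟩]

end Decomp

variable {J : GrothendieckTopology C}

/-- The underlying presheaf of sets of an abelian sheaf, as a sheaf. -/
noncomputable abbrev setSh (F : Sheaf J AddCommGrpCat.{u}) : Sheaf J (Type u) :=
  (sheafCompose J (forget AddCommGrpCat.{u})).obj F

/-- A map out of a free abelian presheaf, as a map of presheaves of sets. -/
noncomputable def setMap {Q : Cᵒᵖ ⥤ Type u} {F : Sheaf J AddCommGrpCat.{u}} (φ : Zf Q ⟶ F.obj) :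
    Q ⟶ (setSh F).obj where
  app V := ↾(gen φ V)
  naturality V W g := by
    apply ConcreteCategory.hom_ext
    exact gen_map φ g

lemma setSh_map_apply (F : Sheaf J AddCommGrpCat.{u}) {V W : Cᵒᵖ} (g : V ⟶ W) (x : F.obj.obj V) :
    (setSh F).obj.map g x = F.obj.map g x := rfl

/-- The map of sheaves of sets underlying a map of abelian sheaves. -/
noncomputable abbrev setShMap {F G : Sheaf J AddCommGrpCat.{u}} (g : F ⟶ G) : setSh F ⟶ setSh G :=
  (sheafCompose J (forget AddCommGrpCat.{u})).map g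

/-- The sieve of arrows along which a section of a presheaf of sets lifts through a family. -/
def liftS {ι : Type*} {P : Cᵒᵖ ⥤ Type u} {G : ι → Cᵒᵖ ⥤ Type u} (f : ∀ k, G k ⟶ P) {U : C}
    (s : P.obj (op U)) : Sieve U where
  arrows V g := ∃ k, ∃ t : (G k).obj (op V), (f k).app (op V) t = P.map g.op s
  downward_closed := by
    rintro V W g ⟨k, t, ht⟩ h
    refine ⟨k, (G k).map h.op t, ?_⟩
    rw [(f k).naturality_apply h.op t, ht, op_comp, Functor.map_comp_apply]

/-- A family of maps of presheaves of sets is jointly locally surjective. -/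
def JLS (J : GrothendieckTopology C) {ι : Type*} {P : Cᵒᵖ ⥤ Type u} {G : ι → Cᵒᵖ ⥤ Type u}
    (f : ∀ k, G k ⟶ P) : Prop :=
  ∀ (U : C) (s : P.obj (op U)), liftS f s ∈ J U

/-- A class of presheaves of sets with a notion of finite covering families, refining every covering
and stable under the fibre products of these families. -/
structure CohClass (J : GrothendieckTopology C) where
  /-- The members. -/
  mem : (Cᵒᵖ ⥤ Type u) → Prop
  /-- The families. -/
  cov : ∀ (P : Cᵒᵖ ⥤ Type u) (m : ℕ) (L : Fin m → Cᵒᵖ ⥤ Type u), (∀ k, L k ⟶ P) → Prop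
  cov_jls : ∀ {P : Cᵒᵖ ⥤ Type u} {m : ℕ} {L : Fin m → Cᵒᵖ ⥤ Type u} (f : ∀ k, L k ⟶ P),
    cov P m L f → JLS J f
  cov_mem : ∀ {P : Cᵒᵖ ⥤ Type u} {m : ℕ} {L : Fin m → Cᵒᵖ ⥤ Type u} (f : ∀ k, L k ⟶ P),
    cov P m L f → ∀ k, mem (L k)
  cov_comp : ∀ {P : Cᵒᵖ ⥤ Type u} {m : ℕ} {L : Fin m → Cᵒᵖ ⥤ Type u} (f : ∀ k, L k ⟶ P),
    mem P → cov P m L f →
    ∀ (n : ℕ) (a : Fin (n + 1) → Fin m), mem (comp f a)
  refine_cov : ∀ {P : Cᵒᵖ ⥤ Type u}, mem P → ∀ {β : Type u} (N : Sheaf J (Type u))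
    (M : β → Sheaf J (Type u)) (π : ∀ b, (M b).obj ⟶ N.obj),
    (∀ b b', ∃ (b'' : β) (s : (M b).obj ⟶ (M b'').obj) (s' : (M b').obj ⟶ (M b'').obj),
      s ≫ π b'' = π b ∧ s' ≫ π b'' = π b') → ∀ (y : P ⟶ N.obj),
    (∀ (U : C) (q : P.obj (op U)), liftS π (y.app (op U) q) ∈ J U) →
      ∃ (m : ℕ) (L : Fin m → Cᵒᵖ ⥤ Type u) (f : ∀ k, L k ⟶ P), cov P m L f ∧
        ∀ k, ∃ (b : β) (t : L k ⟶ (M b).obj), t ≫ π b = f k ≫ y

section Descent

variable {m : ℕ} {P : Cᵒᵖ ⥤ Type u} {L : Fin m → Cᵒᵖ ⥤ Type u} {f : ∀ k, L k ⟶ P}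
  {F : Sheaf J AddCommGrpCat.{u}}

lemma hom_ext_of_jls (h : JLS J f) {φ ψ : Zf P ⟶ F.obj}
    (e : ∀ k V (l : (L k).obj V), gen φ V ((f k).app V l) = gen ψ V ((f k).app V l)) : φ = ψ := by
  refine gen_ext fun V q => ?_
  refine ((isSheaf_iff_isSheaf_of_type _ _).1 (setSh F).property).isSeparated _ (h V.unop q)
    |>.ext ?_
  rintro W g ⟨k, t, ht⟩
  rw [setSh_map_apply, setSh_map_apply, ← gen_map, ← gen_map, ← ht]
  exact e k _ t

lemma exists_descend (h : JLS J f) (s : ∀ k, Zf (L k) ⟶ F.obj)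
    (hs : ∀ V k k' (l : (L k).obj V) (l' : (L k').obj V), (f k).app V l = (f k').app V l' →
      gen (s k) V l = gen (s k') V l') :
    ∃ φ : Zf P ⟶ F.obj, ∀ k, Functor.whiskerRight (f k) AddCommGrpCat.free.{u} ≫ φ = s k := by
  have hF := (isSheaf_iff_isSheaf_of_type _ _).1 (setSh F).property
  let fam : ∀ {U : C} (q : P.obj (op U)),
      Presieve.FamilyOfElements (setSh F).obj (liftS f q).arrows :=
    fun {U} q ⦃V⦄ g (hg : ∃ k, ∃ t : (L k).obj (op V), (f k).app (op V) t = P.map g.op q) =>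
      gen (s hg.choose) (op V) hg.choose_spec.choose
  have hfam : ∀ {U : C} (q : P.obj (op U)) {V : C} (g : V ⟶ U) (hg : liftS f q g) k
      (t : (L k).obj (op V)), (f k).app (op V) t = P.map g.op q →
      fam q g hg = gen (s k) (op V) t :=
    by
      intro U q V g hg k t ht
      exact hs _ _ _ _ _
        ((show ∃ k, ∃ t : (L k).obj (op V), (f k).app (op V) t = P.map g.op q from hg)
          |>.choose_spec.choose_spec.trans ht.symm)
  have hcompat : ∀ {U : C} (q : P.obj (op U)), (fam q).Compatible := by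
    intro U q V₁ V₂ W g₁ g₂ f₁ f₂ h₁ h₂ e
    obtain ⟨k₁, t₁, ht₁⟩ := id h₁
    obtain ⟨k₂, t₂, ht₂⟩ := id h₂
    rw [hfam q f₁ h₁ k₁ t₁ ht₁, hfam q f₂ h₂ k₂ t₂ ht₂, setSh_map_apply, setSh_map_apply,
      ← gen_map, ← gen_map]
    refine hs _ _ _ _ _ ?_
    rw [(f k₁).naturality_apply, (f k₂).naturality_apply, ht₁, ht₂, ← Functor.map_comp_apply,
      ← Functor.map_comp_apply, ← op_comp, ← op_comp, e]
  let v : ∀ V : Cᵒᵖ, P.obj V → F.obj.obj V := fun V q =>
    (hF _ (h V.unop q)).amalgamate (fam q) (hcompat q)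
  have hv : ∀ {U : C} (q : P.obj (op U)) {V : C} (g : V ⟶ U) k (t : (L k).obj (op V)),
      (f k).app (op V) t = P.map g.op q → F.obj.map g.op (v (op U) q) = gen (s k) (op V) t := by
    intro U q V g k t ht
    rw [← hfam q g ⟨k, t, ht⟩ k t ht]
    exact Presieve.IsSheafFor.valid_glue _ (hcompat q) g ⟨k, t, ht⟩
  refine ⟨homOfFun v ?_, fun k => gen_ext fun V l => ?_⟩
  · rintro ⟨U⟩ ⟨U'⟩ g q
    refine (hF _ (h U' (P.map g q))).isSeparatedFor.ext ?_
    rintro V i ⟨k, t, ht⟩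
    rw [setSh_map_apply, setSh_map_apply, hv _ i k t ht, ← Functor.map_comp_apply]
    refine (hv q (i ≫ g.unop) k t ?_).symm
    rw [ht, ← Functor.map_comp_apply]
    rfl
  · rw [gen_whisker, gen_homOfFun]
    have := hv ((f k).app V l) (𝟙 V.unop) k l (by simp)
    simpa using this

/-- The compatibility condition follows from being killed by the first differential. -/
lemma compatible_of_d_comp_eq_zero (φ : Zf (fam f 0) ⟶ F.obj) (hφ : d f 0 ≫ φ = 0) (V : Cᵒᵖ)
    (k k' : Fin m) (l : (L k).obj V) (l' : (L k').obj V) (h : (f k).app V l = (f k').app V l') :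
    gen φ V ⟨fun _ => ⟨k, l⟩, fun _ _ => rfl⟩ = gen φ V ⟨fun _ => ⟨k', l'⟩, fun _ _ => rfl⟩ := by
  let a : Σ k, (L k).obj V := ⟨k, l⟩
  let a' : Σ k, (L k).obj V := ⟨k', l'⟩
  have hx : ∀ i j : Fin 2, val f (![a, a'] i) = val f (![a, a'] j) := by
    intro i j
    fin_cases i <;> fin_cases j <;> simp [a, a', h]
  let x : (fam f (0 + 1)).obj V := ⟨![a, a'], hx⟩
  have e := congrArg (fun χ => gen χ V x) hφ
  simp only [gen_d_comp, gen_zero] at e
  replace e := (Fin.sum_univ_two _).symm.trans e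
  simp only [Fin.val_zero, Fin.val_one, pow_zero, pow_one, one_zsmul, neg_zsmul, ← sub_eq_add_neg,
    sub_eq_zero] at e
  refine Eq.trans ?_ (e.symm.trans ?_) <;>
    exact congrArg (gen φ V) (Subtype.ext (funext fun i => by fin_cases i; rfl))

end Descent

section Exact

variable {S : ShortComplex (Sheaf J AddCommGrpCat.{u})} (hS : S.ShortExact)

include hS

lemma app_f_injective (V : Cᵒᵖ) : Function.Injective (S.f.hom.app V) := by
  have := hS.mono_f
  have : Mono ((sheafToPresheaf J AddCommGrpCat.{u} ⋙ (evaluation _ _).obj V).map S.f) :=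
    inferInstance
  exact (AddCommGrpCat.mono_iff_injective _).1 this

lemma exists_preimage_of_app_g_eq_zero (V : Cᵒᵖ) (t : S.X₂.obj.obj V)
    (ht : S.g.hom.app V t = 0) : ∃ z : S.X₁.obj.obj V, S.f.hom.app V z = t := by
  have := hS.mono_f
  have h := hS.exact.map_of_mono_of_preservesKernel
    (sheafToPresheaf J AddCommGrpCat.{u} ⋙ (evaluation _ _).obj V) inferInstance inferInstance
  exact (ShortComplex.ab_exact_iff _).1 h t ht

lemma exists_hom_lift {Q : Cᵒᵖ ⥤ Type u} (φ : Zf Q ⟶ S.X₂.obj) (hφ : φ ≫ S.g.hom = 0) :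
    ∃ ψ : Zf Q ⟶ S.X₁.obj, ψ ≫ S.f.hom = φ := by
  choose z hz using fun V (q : Q.obj V) => exists_preimage_of_app_g_eq_zero hS V (gen φ V q)
    (congrArg (fun χ => gen χ V q) hφ)
  refine ⟨homOfFun z fun V W g q => app_f_injective hS W ?_, gen_ext fun V q => ?_⟩
  · rw [hz, gen_map, S.f.hom.naturality_apply, hz]
  · rw [gen_comp, gen_homOfFun, hz]

lemma hom_comp_injective {Q : Cᵒᵖ ⥤ Type u} {ψ : Zf Q ⟶ S.X₁.obj} (h : ψ ≫ S.f.hom = 0) : ψ = 0 :=
  gen_ext fun V q => app_f_injective hS V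
    ((congrArg (fun χ => gen χ V q) h).trans (map_zero _).symm)

end Exact

end Groth.Agent.CohColim46
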