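import Groth.Agent.CohColim46.Class
import Groth.Agent.CohColim46.ExtColim
import Groth.Agent.Topos46.ColimSections
import Mathlib.CategoryTheory.Sites.Limits
import Mathlib.Algebra.Category.Grp.FilteredColimits
import Mathlib.CategoryTheory.Preadditive.Injective.Basic

/-!
Cohomology of members of a class with finite coverings commutes with filtered colimits.
-/

universe u

open CategoryTheory CategoryTheory.Limits CategoryTheory.Abelian Opposite

namespace Groth.Agent.CohColim46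

variable {C : Type u} [SmallCategory C] {J : GrothendieckTopology C}
  {I : Type u} [SmallCategory I] (K : I ⥤ Sheaf J AddCommGrpCat.{u})

section Local

variable {K}

lemma exists_sheafify_compare :
    ∃ e : colimit K ≅ (presheafToSheaf J AddCommGrpCat.{u}).obj
        (colimit (K ⋙ sheafToPresheaf J AddCommGrpCat.{u})),
      ∀ i, (colimit.ι K i).hom ≫ e.hom.hom =
        colimit.ι (K ⋙ sheafToPresheaf J AddCommGrpCat.{u}) i ≫
          toSheafify J (colimit (K ⋙ sheafToPresheaf J AddCommGrpCat.{u})) := by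
  let E := colimit.cocone (K ⋙ sheafToPresheaf J AddCommGrpCat.{u})
  let h := Sheaf.isColimitSheafifyCocone E (colimit.isColimit _)
  refine ⟨(colimit.isColimit K).coconePointUniqueUpToIso h, fun i => ?_⟩
  have e : colimit.ι K i ≫ ((colimit.isColimit K).coconePointUniqueUpToIso h).hom =
      (Sheaf.sheafifyCocone E).ι.app i :=
    IsColimit.comp_coconePointUniqueUpToIso_hom (colimit.isColimit K) h i
  exact (congrArg (fun q => q.hom) e).trans (Sheaf.sheafifyCocone_ι_app_val E i)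

lemma colim_local_surj [IsFiltered I] {V : C} (t : (colimit K).obj.obj (op V)) :
    liftS (fun i => (setShMap (colimit.ι K i)).hom) (P := (setSh (colimit K)).obj) t ∈ J V := by
  obtain ⟨e, he⟩ := exists_sheafify_compare (K := K)
  let E := colimit.cocone (K ⋙ sheafToPresheaf J AddCommGrpCat.{u})
  refine J.superset_covering ?_ (Presheaf.imageSieve_mem J (toSheafify J E.pt) (U := op V)
    (e.hom.hom.app (op V) t))
  rintro W g ⟨p, hp⟩
  obtain ⟨i, a, ha⟩ := Types.jointly_surjective _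
    (isColimitOfPreserves ((evaluation Cᵒᵖ AddCommGrpCat.{u}).obj (op W) ⋙
      forget AddCommGrpCat.{u}) (colimit.isColimit (K ⋙ sheafToPresheaf J AddCommGrpCat.{u}))) p
  refine ⟨i, a, ?_⟩
  have hinj : Function.Injective (e.hom.hom.app (op W)) := by
    have : IsIso ((sheafToPresheaf J AddCommGrpCat.{u} ⋙
      (evaluation Cᵒᵖ AddCommGrpCat.{u}).obj (op W)).map e.hom) := inferInstance
    exact (ConcreteCategory.bijective_of_isIso _).1
  refine hinj ?_
  refine (ConcreteCategory.congr_hom (NatTrans.congr_app (he i) (op W)) a).trans ?_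
  refine ((congrArg _ ha).trans hp).trans ?_
  exact (e.hom.hom.naturality_apply g.op t).symm

lemma colim_local_ker [IsFiltered I] {V : C} {i : I} (t : (K.obj i).obj.obj (op V))
    (ht : (colimit.ι K i).hom.app (op V) t = 0) :
    ∃ S ∈ J V, ∀ ⦃W : C⦄ (g : W ⟶ V), S.arrows g → ∃ (j : I) (f : i ⟶ j),
      (K.map f).hom.app (op W) ((K.obj i).obj.map g.op t) = 0 := by
  obtain ⟨e, he⟩ := exists_sheafify_compare (K := K)
  let E := colimit.cocone (K ⋙ sheafToPresheaf J AddCommGrpCat.{u})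
  have h0 : (toSheafify J E.pt).app (op V) ((E.ι.app i).app (op V) t) =
      (toSheafify J E.pt).app (op V) 0 :=
    ((ConcreteCategory.congr_hom (NatTrans.congr_app (he i) (op V)) t).symm.trans
      ((congrArg (e.hom.hom.app (op V)) ht).trans (map_zero _))).trans (map_zero _).symm
  refine ⟨_, Presheaf.equalizerSieve_mem J (toSheafify J E.pt) (X := op V) _ _ h0, ?_⟩
  intro W g hg
  have hg' : (E.ι.app i).app (op W) ((K.obj i).obj.map g.op t) =
      (E.ι.app i).app (op W) (0 : (K.obj i).obj.obj (op W)) :=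
    (((E.ι.app i).naturality_apply g.op t).trans (hg.trans (map_zero _))).trans (map_zero _).symm
  obtain ⟨j, f, hf⟩ := (Types.FilteredColimit.isColimit_eq_iff'
    (isColimitOfPreserves ((evaluation Cᵒᵖ AddCommGrpCat.{u}).obj (op W) ⋙
      forget AddCommGrpCat.{u}) (colimit.isColimit (K ⋙ sheafToPresheaf J AddCommGrpCat.{u})))
    _ _).1 hg'
  exact ⟨j, f, hf.trans (map_zero ((K.map f).hom.app (op W)).hom)⟩

end Local

variable [IsFiltered I]

omit [IsFiltered I] in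
lemma whisker_hom_comp {Q : Cᵒᵖ ⥤ Type u} {i j k : I} (f : i ⟶ j) (g : j ⟶ k)
    (φ : Zf Q ⟶ (K.obj i).obj) :
    φ ≫ (K.map (f ≫ g)).hom = (φ ≫ (K.map f).hom) ≫ (K.map g).hom := by
  rw [Functor.map_comp, Category.assoc]
  rfl

/-- Elementwise: maps out of `Q` commute with the colimit of every filtered diagram. -/
def Comm (Q : Cᵒᵖ ⥤ Type u) (J : GrothendieckTopology C) (I : Type u) [SmallCategory I] : Prop :=
  ∀ K : I ⥤ Sheaf J AddCommGrpCat.{u},
    (∀ y : Zf Q ⟶ (colimit K).obj, ∃ i, ∃ x : Zf Q ⟶ (K.obj i).obj,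
      x ≫ (colimit.ι K i).hom = y) ∧
    ∀ i (x : Zf Q ⟶ (K.obj i).obj), x ≫ (colimit.ι K i).hom = 0 →
      ∃ (j : I) (f : i ⟶ j), x ≫ (K.map f).hom = 0

omit [IsFiltered I] in
lemma comp_ι {Q : Cᵒᵖ ⥤ Type u} {i j : I} (f : i ⟶ j) (φ : Zf Q ⟶ (K.obj i).obj) :
    (φ ≫ (K.map f).hom) ≫ (colimit.ι K j).hom = φ ≫ (colimit.ι K i).hom := by
  rw [Category.assoc]
  exact congrArg (φ ≫ ·) (congrArg (fun q => q.hom) (colimit.w K f))

lemma Comm.of_decomp {Q : Cᵒᵖ ⥤ Type u} {κ : Type} [Finite κ] (δ : Decomp Q κ)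
    (h : ∀ k, Comm (δ.part k) J I) : Comm Q J I := by
  intro K
  refine ⟨fun y => ?_, fun i x hx => ?_⟩
  · choose σ x hx using fun k => (h k K).1 (δ.res y k)
    classical
    cases nonempty_fintype κ
    obtain ⟨i, hi⟩ := IsFiltered.sup_objs_exists (Finset.univ.image σ)
    let g : ∀ k, σ k ⟶ i := fun k => (hi (Finset.mem_image_of_mem σ (Finset.mem_univ k))).some
    obtain ⟨z, hz⟩ := δ.exists_glue fun k => x k ≫ (K.map (g k)).hom
    refine ⟨i, z, δ.hom_ext fun k => ?_⟩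
    rw [← hx k, ← comp_ι K (g k) (x k), ← hz k]
    exact (Category.assoc _ _ _).symm
  · choose j f hf using fun k => (h k K).2 i (δ.res x k) ((Category.assoc _ _ _).trans (by
      rw [hx, comp_zero]))
    obtain ⟨l, g, hg⟩ := Groth.Agent.Topos46.exists_bound f
    refine ⟨l, g, δ.hom_ext fun k => ?_⟩
    obtain ⟨q, hq⟩ := hg k
    refine ((Category.assoc _ _ _).symm.trans ?_).trans comp_zero.symm
    rw [← hq, whisker_hom_comp, hf k, zero_comp]

namespace CohClass

variable (𝒮 : CohClass J)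

lemma comm_ker {P : Cᵒᵖ ⥤ Type u} (hP : 𝒮.mem P) (i : I) (x : Zf P ⟶ (K.obj i).obj)
    (hx : x ≫ (colimit.ι K i).hom = 0) : ∃ (j : I) (f : i ⟶ j), x ≫ (K.map f).hom = 0 := by
  have hsieve : ∀ (U : C) (q : P.obj (op U)),
      liftS (fun b : Σ j, (i ⟶ j) => (setShMap (kernel.ι (K.map b.2))).hom)
        (P := (setSh (K.obj i)).obj) ((setMap x).app (op U) q) ∈ J U := by
    intro U q
    obtain ⟨S, hS, hS'⟩ := colim_local_ker (gen x (op U) q) (congrArg (fun φ => gen φ (op U) q) hx)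
    refine J.superset_covering (fun W g hg => ?_) hS
    obtain ⟨j, f, hf⟩ := hS' g hg
    have hex := ((ShortComplex.exact_of_f_is_kernel (ShortComplex.mk (kernel.ι (K.map f)) (K.map f)
      (kernel.condition _)) (kernelIsKernel _)).map_of_mono_of_preservesKernel
        (sheafToPresheaf J AddCommGrpCat.{u} ⋙ (evaluation _ _).obj (op W)) inferInstance
          inferInstance)
    obtain ⟨z, hz⟩ := (ShortComplex.ab_exact_iff _).1 hex _ hf
    exact ⟨⟨j, f⟩, z, hz⟩
  obtain ⟨m, L, f, hcov, hfac⟩ := 𝒮.refine_cov hP _ _ _ (fun b b' => by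
      obtain ⟨l, p, q, hpq⟩ := IsFiltered.span b.2 b'.2
      let s : ∀ {j : I} (φ : i ⟶ j) (r : j ⟶ l), φ ≫ r = b.2 ≫ p →
          (kernel (K.map φ) ⟶ kernel (K.map (b.2 ≫ p))) := fun φ r e =>
        kernel.lift _ (kernel.ι (K.map φ)) (by rw [← e, K.map_comp, kernel.condition_assoc, zero_comp])
      refine ⟨⟨l, b.2 ≫ p⟩, (setShMap (s b.2 p rfl)).hom, (setShMap (s b'.2 q hpq.symm)).hom,
        ?_, ?_⟩ <;>
      exact congrArg (fun φ => (setShMap φ).hom) (kernel.lift_ι _ _ _))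
    (setMap x) hsieve
  choose b t ht using hfac
  obtain ⟨l, g, hg⟩ := Groth.Agent.Topos46.exists_bound fun k => (b k).2
  refine ⟨l, g, hom_ext_of_jls (𝒮.cov_jls f hcov) fun k V s => ?_⟩
  obtain ⟨q, hq⟩ := hg k
  have e : (kernel.ι (K.map (b k).2)).hom.app V ((t k).app V s) = gen x V ((f k).app V s) :=
    ConcreteCategory.congr_hom (NatTrans.congr_app (ht k) V) s
  have e' : (K.map (b k).2).hom.app V ((kernel.ι (K.map (b k).2)).hom.app V ((t k).app V s)) = 0 :=
    ConcreteCategory.congr_hom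
      (NatTrans.congr_app (congrArg (fun φ => φ.hom) (kernel.condition (K.map (b k).2))) V) _
  rw [e] at e'
  rw [← hq, whisker_hom_comp, gen_comp, gen_comp, e', map_zero, gen_zero]

theorem comm {P : Cᵒᵖ ⥤ Type u} (hP : 𝒮.mem P) : Comm P J I := by
  intro K
  refine ⟨fun y => ?_, fun i x hx => comm_ker K 𝒮 hP i x hx⟩
  obtain ⟨m, L, f, hcov, hfac⟩ := 𝒮.refine_cov hP (β := I) _ _
    (fun i => (setShMap (colimit.ι K i)).hom)
    (fun b b' => ⟨IsFiltered.max b b', (setShMap (K.map (IsFiltered.leftToMax b b'))).hom,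
      (setShMap (K.map (IsFiltered.rightToMax b b'))).hom,
      congrArg (fun φ => (setShMap φ).hom) (colimit.w K _),
      congrArg (fun φ => (setShMap φ).hom) (colimit.w K _)⟩)
    (setMap y) fun U q => colim_local_surj _
  choose σ t ht using hfac
  classical
  obtain ⟨i, hi⟩ := IsFiltered.sup_objs_exists (Finset.univ.image σ)
  let g : ∀ k, σ k ⟶ i := fun k => (hi (Finset.mem_image_of_mem σ (Finset.mem_univ k))).some
  let s : ∀ k, Zf (L k) ⟶ (K.obj i).obj := fun k =>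
    homOfFun (fun V l => (K.map (g k)).hom.app V ((t k).app V l)) fun V W h l => by
      rw [(t k).naturality_apply h l]
      exact (K.map (g k)).hom.naturality_apply h _
  have hs : ∀ k V (l : (L k).obj V),
      (colimit.ι K i).hom.app V (gen (s k) V l) = gen y V ((f k).app V l) := fun k V l => by
    rw [gen_homOfFun]
    refine (ConcreteCategory.congr_hom (NatTrans.congr_app
      (congrArg (fun φ => φ.hom) (colimit.w K (g k))) V) _).trans ?_
    exact ConcreteCategory.congr_hom (NatTrans.congr_app (ht k) V) l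
  let δ : ∀ a : Fin (1 + 1) → Fin m, Zf (comp f a) ⟶ (K.obj i).obj := fun a =>
    homOfFun (fun V x => gen (s (a 0)) V (x.1 0) - gen (s (a 1)) V (x.1 1)) fun V W h x => by
      rw [map_sub]
      exact congrArg₂ (· - ·) (gen_map (s (a 0)) h (x.1 0)) (gen_map (s (a 1)) h (x.1 1))
  choose j h hh using fun a : Fin (1 + 1) → Fin m =>
    comm_ker K 𝒮 (𝒮.cov_comp f hP hcov 1 a) i (δ a) (gen_ext fun V x => by
      rw [gen_comp, gen_homOfFun, map_sub, hs, hs, gen_zero, sub_eq_zero, x.2 0 1])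
  obtain ⟨l, e, he⟩ := Groth.Agent.Topos46.exists_bound h
  obtain ⟨φ, hφ⟩ := exists_descend (𝒮.cov_jls f hcov) (fun k => s k ≫ (K.map e).hom)
    fun V k k' a a' hk => by
      obtain ⟨q, hq⟩ := he ![k, k']
      have hx : ∀ r r' : Fin (1 + 1),
          (f (![k, k'] r)).app V (Fin.cons (α := fun r => (L (![k, k'] r)).obj V) a
            (Fin.cons (α := fun r => (L (![k, k'] r.succ)).obj V) a' (fun r => r.elim0)) r) =
          (f (![k, k'] r')).app V (Fin.cons (α := fun r => (L (![k, k'] r)).obj V) a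
            (Fin.cons (α := fun r => (L (![k, k'] r.succ)).obj V) a' (fun r => r.elim0)) r') := by
        intro r r'
        fin_cases r <;> fin_cases r' <;> first | rfl | exact hk | exact hk.symm
      have h0 := congrArg (fun φ => gen φ V (⟨_, hx⟩ : (comp f ![k, k']).obj V))
        ((whisker_hom_comp K (h ![k, k']) q (δ ![k, k'])).trans (by rw [hh, zero_comp]) :
          δ ![k, k'] ≫ (K.map (h ![k, k'] ≫ q)).hom = 0)
      rw [hq] at h0
      simp only [δ, gen_comp, gen_homOfFun, map_sub, gen_zero, sub_eq_zero] at h0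
      rw [gen_comp, gen_comp]
      exact h0
  refine ⟨l, φ, hom_ext_of_jls (𝒮.cov_jls f hcov) fun k V a => ?_⟩
  have h1 : gen φ V ((f k).app V a) = gen (s k ≫ (K.map e).hom) V a := by
    rw [← hφ k, gen_whisker]
  rw [gen_comp, h1, gen_comp]
  exact (ConcreteCategory.congr_hom (NatTrans.congr_app
    (congrArg (fun ψ => ψ.hom) (colimit.w K e)) V) _).trans (hs k V a)

/-- The sheaves whose Cech complexes are exact in positive degrees. -/
def Acyc (F : Sheaf J AddCommGrpCat.{u}) : Prop :=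
  ∀ ⦃P : Cᵒᵖ ⥤ Type u⦄ ⦃m : ℕ⦄ ⦃L : Fin m → Cᵒᵖ ⥤ Type u⦄ (f : ∀ k, L k ⟶ P),
    𝒮.mem P → 𝒮.cov P m L f → ∀ (n : ℕ) (c : Zf (fam f (n + 1)) ⟶ F.obj),
      d f (n + 1) ≫ c = 0 → ∃ b, d f n ≫ b = c

lemma acyc_of_injective (F : Sheaf J AddCommGrpCat.{u}) [Injective F] : 𝒮.Acyc F := by
  have : Injective F.obj :=
    Injective.injective_of_adjoint (sheafificationAdjunction J AddCommGrpCat.{u}) F
  exact fun P m L f _ _ n c hc => exists_primitive_of_injective f n c hc

lemma comm_fam {P : Cᵒᵖ ⥤ Type u} {m : ℕ} {L : Fin m → Cᵒᵖ ⥤ Type u} (f : ∀ k, L k ⟶ P)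
    (hP : 𝒮.mem P) (hcov : 𝒮.cov P m L f) (n : ℕ) : Comm (fam f n) J I :=
  Comm.of_decomp (famDecomp f n) fun a => 𝒮.comm (𝒮.cov_comp f hP hcov n a)

lemma acyc_colimit (hK : ∀ i, 𝒮.Acyc (K.obj i)) : 𝒮.Acyc (colimit K) := by
  intro P m L f hP hcov n c hc
  obtain ⟨i, x, rfl⟩ := (𝒮.comm_fam f hP hcov (n + 1) K).1 c
  obtain ⟨j, g, hg⟩ := (𝒮.comm_fam f hP hcov (n + 1 + 1) K).2 i (d f (n + 1) ≫ x)
    ((Category.assoc _ _ _).trans hc)
  obtain ⟨b, hb⟩ := hK j f hP hcov n (x ≫ (K.map g).hom) ((Category.assoc _ _ _).symm.trans hg)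
  refine ⟨b ≫ (colimit.ι K j).hom, ?_⟩
  rw [← Category.assoc, hb, comp_ι]

section Sequence

variable {𝒮} {S : ShortComplex (Sheaf J AddCommGrpCat.{u})} (hS : S.ShortExact)
  (h₁ : 𝒮.Acyc S.X₁)

include hS h₁

lemma surjective_g {P : Cᵒᵖ ⥤ Type u} (hP : 𝒮.mem P) (y : Zf P ⟶ S.X₃.obj) :
    ∃ x : Zf P ⟶ S.X₂.obj, x ≫ S.g.hom = y := by
  have hsieve : ∀ (U : C) (q : P.obj (op U)),
      liftS (fun _ : PUnit.{u + 1} => (setShMap S.g).hom) (P := (setSh S.X₃).obj)
        ((setMap y).app (op U) q) ∈ J U := by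
    intro U q
    have := hS.epi_g
    have := (Sheaf.isLocallySurjective_iff_epi' AddCommGrpCat.{u} S.g).2 this
    refine J.superset_covering ?_ (Presheaf.imageSieve_mem J S.g.hom (U := op U) (gen y (op U) q))
    rintro W g ⟨z, hz⟩
    exact ⟨⟨⟩, z, hz⟩
  obtain ⟨m, L, f, hcov, hfac⟩ := 𝒮.refine_cov hP _ _ _
    (fun _ _ => ⟨⟨⟩, 𝟙 _, 𝟙 _, Category.id_comp _, Category.id_comp _⟩) (setMap y) hsieve
  choose b t ht using hfac
  have ht' : ∀ k V (l : (L k).obj V), S.g.hom.app V ((t k).app V l) = gen y V ((f k).app V l) :=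
    fun k V l => ConcreteCategory.congr_hom (NatTrans.congr_app (ht k) V) l
  let s' : Zf (fam f 0) ⟶ S.X₂.obj :=
    homOfFun (fun V x => (t (x.1 0).1).app V (x.1 0).2) fun V W h x =>
      (t (x.1 0).1).naturality_apply h _
  have hz : (d f 0 ≫ s') ≫ S.g.hom = 0 := by
    refine gen_ext fun V x => ?_
    rw [gen_comp, gen_d_comp, gen_zero]
    erw [Fin.sum_univ_two]
    simp only [Fin.val_zero, Fin.val_one, pow_zero, pow_one, one_zsmul, neg_zsmul, ← sub_eq_add_neg]
    rw [gen_homOfFun, gen_homOfFun, map_sub, sub_eq_zero]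
    refine (ht' _ V _).trans ((congrArg (gen y V) ?_).trans (ht' _ V _).symm)
    exact x.2 _ _
  obtain ⟨c, hc⟩ := exists_hom_lift hS _ hz
  obtain ⟨w, hw⟩ := h₁ f hP hcov 0 c (hom_comp_injective hS (by
    rw [Category.assoc, hc, ← Category.assoc, d_d, zero_comp]))
  let s'' : Zf (fam f 0) ⟶ S.X₂.obj := s' - w ≫ S.f.hom
  have hs'' : d f 0 ≫ s'' = 0 := by
    simp only [s'', Preadditive.comp_sub, ← Category.assoc, hw, hc, sub_self]
  let s : ∀ k, Zf (L k) ⟶ S.X₂.obj := fun k => homOfFun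
    (fun V l => gen s'' V ⟨fun _ => ⟨k, l⟩, fun _ _ => rfl⟩) fun V W h l =>
      gen_map s'' h (⟨fun _ => ⟨k, l⟩, fun _ _ => rfl⟩ : (fam f 0).obj V)
  obtain ⟨x, hx⟩ := exists_descend (𝒮.cov_jls f hcov) s fun V k k' l l' hk => by
    rw [gen_homOfFun, gen_homOfFun]
    exact compatible_of_d_comp_eq_zero s'' hs'' V k k' l l' hk
  refine ⟨x, hom_ext_of_jls (𝒮.cov_jls f hcov) fun k V l => ?_⟩
  have h1 : gen x V ((f k).app V l) = gen (s k) V l := by rw [← hx k, gen_whisker]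
  have hzero : S.f.hom ≫ S.g.hom = 0 := congrArg (fun φ => φ.hom) S.zero
  rw [gen_comp, h1, gen_homOfFun, gen_sub, map_sub, gen_homOfFun, gen_comp, ← ht' k V l]
  refine (congrArg (_ - ·) ?_).trans (sub_zero _)
  exact ConcreteCategory.congr_hom (NatTrans.congr_app hzero V) _

lemma surjective_g_fam {P : Cᵒᵖ ⥤ Type u} {m : ℕ} {L : Fin m → Cᵒᵖ ⥤ Type u} (f : ∀ k, L k ⟶ P)
    (hP : 𝒮.mem P) (hcov : 𝒮.cov P m L f) (n : ℕ) (y : Zf (fam f n) ⟶ S.X₃.obj) :
    ∃ x : Zf (fam f n) ⟶ S.X₂.obj, x ≫ S.g.hom = y := by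
  choose x hx using fun a => surjective_g hS h₁ (𝒮.cov_comp f hP hcov n a)
    ((famDecomp f n).res y a)
  obtain ⟨z, hz⟩ := (famDecomp f n).exists_glue x
  refine ⟨z, (famDecomp f n).hom_ext fun a => ?_⟩
  rw [← hx a, ← hz a]
  exact (Category.assoc _ _ _).symm

lemma acyc_quotient (h₂ : 𝒮.Acyc S.X₂) : 𝒮.Acyc S.X₃ := by
  intro P m L f hP hcov n c hc
  obtain ⟨c₂, rfl⟩ := surjective_g_fam hS h₁ f hP hcov (n + 1) c
  obtain ⟨c₁, hc₁⟩ := exists_hom_lift hS (d f (n + 1) ≫ c₂) ((Category.assoc _ _ _).trans hc)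
  obtain ⟨b₁, hb₁⟩ := h₁ f hP hcov (n + 1) c₁ (hom_comp_injective hS (by
    rw [Category.assoc, hc₁, ← Category.assoc, d_d, zero_comp]))
  obtain ⟨b₂, hb₂⟩ := h₂ f hP hcov n (c₂ - b₁ ≫ S.f.hom) (by
    rw [Preadditive.comp_sub, ← Category.assoc, hb₁, hc₁, sub_self])
  refine ⟨b₂ ≫ S.g.hom, ?_⟩
  have hzero : S.f.hom ≫ S.g.hom = 0 := congrArg (fun φ => φ.hom) S.zero
  rw [← Category.assoc, hb₂, Preadditive.sub_comp, Category.assoc, hzero, comp_zero, sub_zero]

end Sequence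

/-- The free abelian sheaf on a presheaf of sets. -/
noncomputable abbrev fsh (J : GrothendieckTopology C) (P : Cᵒᵖ ⥤ Type u) :
    Sheaf J AddCommGrpCat.{u} :=
  (presheafToSheaf J AddCommGrpCat.{u}).obj (Zf P)

/-- The degree zero class of a map out of the free presheaf. -/
noncomputable def e₀ {P : Cᵒᵖ ⥤ Type u} {F : Sheaf J AddCommGrpCat.{u}} (φ : Zf P ⟶ F.obj) :
    Ext.{u} (fsh J P) F 0 :=
  Ext.mk₀ (((sheafificationAdjunction J AddCommGrpCat.{u}).homEquiv (Zf P) F).symm φ)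

lemma e₀_surjective {P : Cᵒᵖ ⥤ Type u} {F : Sheaf J AddCommGrpCat.{u}} (x : Ext.{u} (fsh J P) F 0) :
    ∃ φ, e₀ φ = x := by
  obtain ⟨ψ, rfl⟩ := (Ext.mk₀_bijective _ _).2 x
  exact ⟨(sheafificationAdjunction J AddCommGrpCat.{u}).homEquiv (Zf P) F ψ,
    congrArg Ext.mk₀ (Equiv.symm_apply_apply _ _)⟩

lemma e₀_comp {P : Cᵒᵖ ⥤ Type u} {F G : Sheaf J AddCommGrpCat.{u}} (φ : Zf P ⟶ F.obj) (g : F ⟶ G) :
    (e₀ φ).comp (Ext.mk₀ g) (add_zero 0) = e₀ (φ ≫ g.hom) := by
  rw [e₀, Ext.mk₀_comp_mk₀]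
  exact congrArg Ext.mk₀
    ((sheafificationAdjunction J AddCommGrpCat.{u}).homEquiv_naturality_right_symm φ g).symm

lemma e₀_eq_zero_iff {P : Cᵒᵖ ⥤ Type u} {F : Sheaf J AddCommGrpCat.{u}} (φ : Zf P ⟶ F.obj) :
    e₀ φ = 0 ↔ φ = 0 := by
  rw [e₀, Ext.mk₀_eq_zero_iff]
  refine ⟨fun h => ?_, fun h => ?_⟩
  · have := congrArg ((sheafificationAdjunction J AddCommGrpCat.{u}).homEquiv (Zf P) F) h
    rw [Equiv.apply_symm_apply, Adjunction.homEquiv_unit, Functor.map_zero, comp_zero] at this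
    exact this
  · rw [Adjunction.homEquiv_counit, h, Functor.map_zero, zero_comp]

theorem ext_subsingleton_of_acyc (q : ℕ) : ∀ {P : Cᵒᵖ ⥤ Type u}, 𝒮.mem P →
    ∀ {F : Sheaf J AddCommGrpCat.{u}}, 𝒮.Acyc F → Subsingleton (Ext.{u} (fsh J P) F (q + 1)) := by
  induction q with
  | zero =>
    intro P hP F hF
    let T := ShortComplex.mk (Injective.ι F) (cokernel.π _) (cokernel.condition _)
    have hT : T.ShortExact := { exact := ShortComplex.exact_cokernel _ }
    refine subsingleton_of_forall_eq 0 fun x => ?_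
    obtain ⟨z, rfl⟩ := Ext.covariant_sequence_exact₁ (fsh J P) hT x
      (@Ext.eq_zero_of_injective _ _ _ _ _ _ _ (inferInstanceAs (Injective (Injective.under F))) _) rfl
    obtain ⟨φ, rfl⟩ := e₀_surjective z
    obtain ⟨ψ, rfl⟩ := surjective_g hT hF hP φ
    rw [← e₀_comp, Ext.comp_assoc_of_second_deg_zero]
    erw [hT.comp_extClass]
    exact Ext.comp_zero _ _ _ _ _
  | succ q ih =>
    intro P hP F hF
    let T := ShortComplex.mk (Injective.ι F) (cokernel.π _) (cokernel.condition _)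
    have hT : T.ShortExact := { exact := ShortComplex.exact_cokernel _ }
    have := ih hP (acyc_quotient hT hF (𝒮.acyc_of_injective (Injective.under F)))
    refine subsingleton_of_forall_eq 0 fun x => ?_
    obtain ⟨z, rfl⟩ := Ext.covariant_sequence_exact₁ (fsh J P) hT x
      (@Ext.eq_zero_of_injective _ _ _ _ _ _ _ (inferInstanceAs (Injective (Injective.under F))) _) rfl
    rw [Subsingleton.elim z 0, Ext.zero_comp]

/-- Cohomology of a member commutes with filtered colimits. -/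
theorem extComm {P : Cᵒᵖ ⥤ Type u} (hP : 𝒮.mem P) (n : ℕ) : ExtComm I (fsh J P) n := by
  refine extComm_of_acyclic (fun K => ⟨fun y => ?_, fun i x hx => ?_⟩)
    (fun K hK q => 𝒮.ext_subsingleton_of_acyc q hP
      (𝒮.acyc_colimit K fun i => @acyc_of_injective _ _ _ 𝒮 _ (hK i))) n
  · obtain ⟨φ, rfl⟩ := e₀_surjective y
    obtain ⟨i, x, rfl⟩ := (𝒮.comm hP K).1 φ
    exact ⟨i, e₀ x, e₀_comp _ _⟩
  · obtain ⟨φ, rfl⟩ := e₀_surjective x
    rw [e₀_comp, e₀_eq_zero_iff] at hx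
    obtain ⟨j, f, hf⟩ := (𝒮.comm hP K).2 i φ hx
    exact ⟨j, f, by rw [e₀_comp, e₀_eq_zero_iff]; exact hf⟩

end CohClass

end Groth.Agent.CohColim46
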