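import Mathlib.AlgebraicTopology.AlternatingFaceMapComplex
import Mathlib.Algebra.Category.Grp.Abelian
import Mathlib.Algebra.Category.Grp.Adjunctions
import Mathlib.CategoryTheory.Abelian.FunctorCategory
import Mathlib.CategoryTheory.Preadditive.Injective.Basic
import Mathlib.GroupTheory.FreeAbelianGroup

/-!
The nerve of a finite family of maps of presheaves of sets and the exactness of the associated
complex of free abelian presheaves.
-/

universe u

open CategoryTheory CategoryTheory.Limits Opposite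

namespace Groth.Agent.CohColim46

variable {C : Type u} [SmallCategory C]

/-- The free abelian presheaf on a presheaf of sets. -/
noncomputable abbrev Zf (Q : Cᵒᵖ ⥤ Type u) : Cᵒᵖ ⥤ AddCommGrpCat.{u} := Q ⋙ AddCommGrpCat.free.{u}

section Gen

variable {Q Q' : Cᵒᵖ ⥤ Type u} {M M' : Cᵒᵖ ⥤ AddCommGrpCat.{u}}

/-- The value of a map out of a free abelian presheaf on a generator. -/
noncomputable def gen (φ : Zf Q ⟶ M) (V : Cᵒᵖ) (q : Q.obj V) : M.obj V := φ.app V (FreeAbelianGroup.of q)

lemma gen_map (φ : Zf Q ⟶ M) {V W : Cᵒᵖ} (g : V ⟶ W) (q : Q.obj V) :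
    gen φ W (Q.map g q) = M.map g (gen φ V q) :=
  (congrArg (φ.app W) (FreeAbelianGroup.map_of_apply (f := fun x => Q.map g x) q).symm).trans
    (ConcreteCategory.congr_hom (φ.naturality g) (FreeAbelianGroup.of q))

lemma gen_ext {φ ψ : Zf Q ⟶ M} (h : ∀ V q, gen φ V q = gen ψ V q) : φ = ψ :=
  NatTrans.ext (funext fun V => AddCommGrpCat.hom_ext (FreeAbelianGroup.lift_ext _ _ fun q => h V q))

/-- A map out of a free abelian presheaf from its values on generators. -/
noncomputable def homOfFun (F : ∀ V, Q.obj V → M.obj V)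
    (hF : ∀ ⦃V W : Cᵒᵖ⦄ (g : V ⟶ W) (q : Q.obj V), F W (Q.map g q) = M.map g (F V q)) :
    Zf Q ⟶ M where
  app V := AddCommGrpCat.ofHom (FreeAbelianGroup.lift (F V))
  naturality V W g := AddCommGrpCat.hom_ext (FreeAbelianGroup.lift_ext _ _ fun q => by
    refine (congrArg (FreeAbelianGroup.lift (F W))
      (FreeAbelianGroup.map_of_apply (f := fun x => Q.map g x) q)).trans ?_
    refine (FreeAbelianGroup.lift_apply_of _ _).trans ((hF g q).trans ?_)
    exact congrArg (M.map g) (FreeAbelianGroup.lift_apply_of _ _).symm)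

@[simp]
lemma gen_homOfFun (F : ∀ V, Q.obj V → M.obj V)
    (hF : ∀ ⦃V W : Cᵒᵖ⦄ (g : V ⟶ W) (q : Q.obj V), F W (Q.map g q) = M.map g (F V q))
    (V : Cᵒᵖ) (q : Q.obj V) : gen (homOfFun F hF) V q = F V q :=
  FreeAbelianGroup.lift_apply_of _ _

@[simp]
lemma gen_comp (φ : Zf Q ⟶ M) (g : M ⟶ M') (V : Cᵒᵖ) (q : Q.obj V) :
    gen (φ ≫ g) V q = g.app V (gen φ V q) := rfl

@[simp]
lemma gen_zero (V : Cᵒᵖ) (q : Q.obj V) : gen (0 : Zf Q ⟶ M) V q = 0 := rfl

@[simp]
lemma gen_sub (φ ψ : Zf Q ⟶ M) (V : Cᵒᵖ) (q : Q.obj V) :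
    gen (φ - ψ) V q = gen φ V q - gen ψ V q := rfl

@[simp]
lemma gen_whisker (f : Q' ⟶ Q) (φ : Zf Q ⟶ M) (V : Cᵒᵖ) (q : Q'.obj V) :
    gen (Functor.whiskerRight f AddCommGrpCat.free.{u} ≫ φ) V q = gen φ V (f.app V q) :=
  congrArg (φ.app V) (FreeAbelianGroup.map_of_apply (f := fun x => f.app V x) q)

end Gen

variable {m : ℕ} {P : Cᵒᵖ ⥤ Type u} {L : Fin m → Cᵒᵖ ⥤ Type u} (f : ∀ k, L k ⟶ P)

/-- The underlying element in `P` of a member of the disjoint union. -/
abbrev val {V : Cᵒᵖ} (a : Σ k, (L k).obj V) : P.obj V := (f a.1).app V a.2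

/-- Restriction in the disjoint union. -/
abbrev sres {V W : Cᵒᵖ} (g : V ⟶ W) (a : Σ k, (L k).obj V) : Σ k, (L k).obj W :=
  ⟨a.1, (L a.1).map g a.2⟩

/-- The fibre powers of the disjoint union of a family over its target. -/
def fam (n : ℕ) : Cᵒᵖ ⥤ Type u where
  obj V := {x : Fin (n + 1) → Σ k, (L k).obj V // ∀ i j, val f (x i) = val f (x j)}
  map {V W} g := ↾fun x => ⟨fun i => sres g (x.1 i), fun i j =>
    ((f _).naturality_apply g _).trans ((congrArg (P.map g) (x.2 i j)).trans
      ((f _).naturality_apply g _).symm)⟩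
  map_id V := by
    apply ConcreteCategory.hom_ext
    intro x
    refine Subtype.ext (funext fun i => Sigma.ext rfl (heq_of_eq ?_))
    exact ConcreteCategory.congr_hom ((L _).map_id V) _
  map_comp g h := by
    apply ConcreteCategory.hom_ext
    intro x
    refine Subtype.ext (funext fun i => Sigma.ext rfl (heq_of_eq ?_))
    exact ConcreteCategory.congr_hom ((L _).map_comp g h) _

/-- Reindexing of fibre powers. -/
def famMap {n n' : ℕ} (θ : Fin (n' + 1) → Fin (n + 1)) : fam f n ⟶ fam f n' where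
  app V := ↾fun x => ⟨fun i => x.1 (θ i), fun i j => x.2 _ _⟩
  naturality _ _ _ := rfl

/-- The nerve of the family, as a simplicial presheaf. -/
def nerve : SimplicialObject (Cᵒᵖ ⥤ Type u) where
  obj n := fam f n.unop.len
  map θ := famMap f θ.unop.toOrderHom
  map_id _ := rfl
  map_comp _ _ := rfl

/-- The simplicial free abelian presheaf on the nerve. -/
noncomputable abbrev freeNerve : SimplicialObject (Cᵒᵖ ⥤ AddCommGrpCat.{u}) :=
  ((SimplicialObject.whiskering _ _).obj
    ((Functor.whiskeringRight Cᵒᵖ (Type u) AddCommGrpCat.{u}).obj AddCommGrpCat.free.{u})).obj (nerve f)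

/-- The differential of the complex of free abelian presheaves of the nerve. -/
noncomputable def d (n : ℕ) : Zf (fam f (n + 1)) ⟶ Zf (fam f n) :=
  AlgebraicTopology.AlternatingFaceMapComplex.objD (freeNerve f) n

lemma d_d (n : ℕ) : d f (n + 1) ≫ d f n = 0 :=
  AlgebraicTopology.AlternatingFaceMapComplex.d_squared (freeNerve f) n

lemma d_eq (n : ℕ) : d f n = ∑ i : Fin (n + 2),
    (-1 : ℤ) ^ (i : ℕ) • Functor.whiskerRight (famMap f i.succAbove) AddCommGrpCat.free.{u} :=
  rfl

lemma d_app_of (n : ℕ) (V : Cᵒᵖ) (x : (fam f (n + 1)).obj V) :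
    (d f n).app V (FreeAbelianGroup.of x) = ∑ i : Fin (n + 2),
      (-1 : ℤ) ^ (i : ℕ) • (FreeAbelianGroup.of ((famMap f i.succAbove).app V x) :
        FreeAbelianGroup ((fam f n).obj V)) := by
  rw [d_eq]
  let ev : (Zf (fam f (n + 1)) ⟶ Zf (fam f n)) →+ FreeAbelianGroup ((fam f n).obj V) :=
    { toFun := fun φ => φ.app V (FreeAbelianGroup.of x)
      map_zero' := rfl
      map_add' := fun _ _ => rfl }
  refine (map_sum ev _ _).trans (Finset.sum_congr rfl fun i _ => ?_)
  refine (map_zsmul ev _ _).trans (congrArg _ ?_)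
  exact FreeAbelianGroup.map_of_apply (f := fun y => (famMap f i.succAbove).app V y) x

lemma gen_d_comp {M : Cᵒᵖ ⥤ AddCommGrpCat.{u}} (n : ℕ) (φ : Zf (fam f n) ⟶ M) (V : Cᵒᵖ)
    (x : (fam f (n + 1)).obj V) :
    gen (d f n ≫ φ) V x = ∑ i : Fin (n + 2),
      (-1 : ℤ) ^ (i : ℕ) • gen φ V ((famMap f i.succAbove).app V x) := by
  refine (congrArg (φ.app V) (d_app_of f n V x)).trans ?_
  exact (map_sum (φ.app V).hom _ _).trans
    (Finset.sum_congr rfl fun i _ => map_zsmul (φ.app V).hom _ _)

/-- The differential at an object, as a map of free abelian groups. -/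
noncomputable def dF (n : ℕ) (V : Cᵒᵖ) :
    FreeAbelianGroup ((fam f (n + 1)).obj V) →+ FreeAbelianGroup ((fam f n).obj V) :=
  ((d f n).app V).hom

section Contraction

variable (n : ℕ) (V : Cᵒᵖ)

/-- A chosen lift of the point under a member of the fibre power. -/
noncomputable def sec (p : P.obj V) (h : ∃ a, val f (V := V) a = p) : Σ k, (L k).obj V := h.choose

lemma sec_congr {p q : P.obj V} (e : p = q) (h : ∃ a, val f (V := V) a = p)
    (h' : ∃ a, val f (V := V) a = q) : sec f V p h = sec f V q h' := by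
  subst e; rfl

/-- Putting the chosen lift in front. -/
noncomputable def consSec (x : (fam f n).obj V) : (fam f (n + 1)).obj V :=
  ⟨Fin.cons (sec f V (val f (x.1 0)) ⟨_, rfl⟩) x.1, by
    have h : ∀ i, val f (Fin.cons (α := fun _ => Σ k, (L k).obj V)
        (sec f V (val f (x.1 0)) ⟨_, rfl⟩) x.1 i) = val f (x.1 0) := fun i => by
      refine Fin.cases ?_ (fun j => ?_) i
      · exact (⟨_, rfl⟩ : ∃ a, val f (V := V) a = val f (x.1 0)).choose_spec
      · exact x.2 j 0
    exact fun i j => (h i).trans (h j).symm⟩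

/-- The contracting homotopy. -/
noncomputable def hmt : FreeAbelianGroup ((fam f n).obj V) →+ FreeAbelianGroup ((fam f (n + 1)).obj V) :=
  FreeAbelianGroup.lift fun x => FreeAbelianGroup.of (consSec f n V x)

lemma famMap_zero_consSec (x : (fam f n).obj V) :
    (famMap f (Fin.succAbove 0)).app V (consSec f n V x) = x :=
  Subtype.ext (funext fun i => by
    change (consSec f n V x).1 ((0 : Fin (n + 2)).succAbove i) = x.1 i
    simp [consSec])

lemma famMap_succ_consSec (x : (fam f (n + 1)).obj V) (i : Fin (n + 2)) :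
    (famMap f i.succ.succAbove).app V (consSec f (n + 1) V x) =
      consSec f n V ((famMap f i.succAbove).app V x) :=
  Subtype.ext (funext fun j => by
    change Fin.cons (α := fun _ => Σ k, (L k).obj V) _ x.1 (i.succ.succAbove j) =
      Fin.cons (α := fun _ => Σ k, (L k).obj V) _ (fun l => x.1 (i.succAbove l)) j
    refine Fin.cases ?_ (fun l => ?_) j
    · rw [Fin.succ_succAbove_zero, Fin.cons_zero, Fin.cons_zero]
      exact sec_congr f V (x.2 _ _) _ _
    · rw [Fin.succ_succAbove_succ, Fin.cons_succ, Fin.cons_succ])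

lemma d_hmt_add (z : FreeAbelianGroup ((fam f (n + 1)).obj V)) :
    dF f (n + 1) V (hmt f (n + 1) V z) + hmt f n V (dF f n V z) = z := by
  refine DFunLike.congr_fun (show (dF f (n + 1) V).comp (hmt f (n + 1) V) +
    (hmt f n V).comp (dF f n V) = AddMonoidHom.id _ from
      FreeAbelianGroup.lift_ext _ _ fun x => ?_) z
  have e : ∀ (k : ℕ) (y : (fam f (k + 1)).obj V), dF f k V (FreeAbelianGroup.of y) =
      ∑ i : Fin (k + 2), (-1 : ℤ) ^ (i : ℕ) •
        FreeAbelianGroup.of ((famMap f i.succAbove).app V y) := fun k y => d_app_of f k V y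
  have e' : ∀ (k : ℕ) (y : (fam f k).obj V),
      hmt f k V (FreeAbelianGroup.of y) = FreeAbelianGroup.of (consSec f k V y) :=
    fun k y => FreeAbelianGroup.lift_apply_of _ _
  simp only [AddMonoidHom.add_apply, AddMonoidHom.comp_apply, AddMonoidHom.id_apply]
  rw [e', e, e, map_sum, Fin.sum_univ_succ, famMap_zero_consSec, Fin.val_zero, pow_zero, one_zsmul,
    add_assoc, ← Finset.sum_add_distrib]
  refine (add_eq_left).2 (Finset.sum_eq_zero fun i _ => ?_)
  rw [famMap_succ_consSec, Fin.val_succ, pow_succ, mul_neg_one, neg_zsmul, map_zsmul, e']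
  exact neg_add_cancel _

end Contraction

/-- A cocycle with values in an injective presheaf is a coboundary. -/
lemma exists_primitive_of_injective {M : Cᵒᵖ ⥤ AddCommGrpCat.{u}} [Injective M] (n : ℕ)
    (c : Zf (fam f (n + 1)) ⟶ M) (hc : d f (n + 1) ≫ c = 0) :
    ∃ b : Zf (fam f n) ⟶ M, d f n ≫ b = c := by
  have hk : kernel.ι (d f n) ≫ c = 0 := by
    ext V z
    let z' : FreeAbelianGroup ((fam f (n + 1)).obj V) := (kernel.ι (d f n)).app V z
    have h0 : dF f n V z' = 0 :=
      ConcreteCategory.congr_hom (NatTrans.congr_app (kernel.condition (d f n)) V) z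
    have h1 := d_hmt_add f n V z'
    rw [h0, map_zero, add_zero] at h1
    exact (congrArg (c.app V) h1.symm).trans
      (ConcreteCategory.congr_hom (NatTrans.congr_app hc V) _)
  refine ⟨Injective.factorThru (cokernel.desc _ c hk) (Abelian.factorThruCoimage (d f n)), ?_⟩
  calc d f n ≫ Injective.factorThru (cokernel.desc _ c hk) (Abelian.factorThruCoimage (d f n))
      = (Abelian.coimage.π (d f n) ≫ Abelian.factorThruCoimage (d f n)) ≫
          Injective.factorThru (cokernel.desc _ c hk) (Abelian.factorThruCoimage (d f n)) := by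
        rw [Abelian.coimage.fac]
    _ = c := by rw [Category.assoc, Injective.comp_factorThru, cokernel.π_desc]

end Groth.Agent.CohColim46
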