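import Groth.Agent.CohColim46.Apps

/-!
A class of quasi-compact sheaves of sets closed under products and equalizers up to covering
gives a class with finite coverings: the sheaves covered by a member whose fibre products of
members are covered by members.
-/

universe u

open CategoryTheory CategoryTheory.Limits Opposite ToposFin Groth.Agent.Topos46

namespace Groth.Agent.CohColim46

variable {C : Type u} [SmallCategory C] {J : GrothendieckTopology C}

lemma epi_pullback_fst {X Y Z : Sh J} (f : Y ⟶ X) (g : Z ⟶ X) [Epi g] :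
    Epi (pullback.fst f g) :=
  ((isEpiFam_of_epi g).pullback_fst f).epi

variable (S : Set (Sh J))

/-- Covered by a member. -/
def Covd (X : Sh J) : Prop := ∃ R ∈ S, ∃ p : R ⟶ X, Epi p

/-- Covered by a member, with fibre products of members covered by members. -/
def Good (X : Sh J) : Prop :=
  Covd S X ∧ ∀ K ∈ S, ∀ L ∈ S, ∀ (a : K ⟶ X) (b : L ⟶ X), Covd S (pullback a b)

/-- The hypotheses on a class of sheaves of sets. -/
structure QcGenHyp : Prop where
  top : ∃ K ∈ S, Epi (terminal.from K)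
  refine_epi : ∀ (F K : Sh J) (g : F ⟶ K), K ∈ S → Epi g →
    ∃ (K' : Sh J) (k : K' ⟶ F), K' ∈ S ∧ Epi (k ≫ g)
  prod : ∀ K ∈ S, ∀ K' ∈ S, ∃ (K'' : Sh J) (g : K'' ⟶ K ⨯ K'), K'' ∈ S ∧ Epi g
  eq : ∀ K ∈ S, ∀ K' ∈ S, ∀ (a b : K ⟶ K'),
    ∃ (K'' : Sh J) (g : K'' ⟶ equalizer a b), K'' ∈ S ∧ Epi g
  qc : ∀ K ∈ S, CohCx.IsQcObject K

variable {S}

lemma Covd.of_epi {X Y : Sh J} (h : Covd S X) (f : X ⟶ Y) [Epi f] : Covd S Y := by
  obtain ⟨R, hR, p, hp⟩ := h
  exact ⟨R, hR, p ≫ f, inferInstance⟩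

variable (h : QcGenHyp S)

include h

lemma QcGenHyp.good_mem {M : Sh J} (hM : M ∈ S) : Good S M := by
  refine ⟨⟨M, hM, 𝟙 M, inferInstance⟩, fun K hK L hL a b => ?_⟩
  obtain ⟨R, g, hR, hg⟩ := h.prod K hK L hL
  obtain ⟨R', g', hR', hg'⟩ := h.eq R hR M hM ((g ≫ prod.fst) ≫ a) ((g ≫ prod.snd) ≫ b)
  let φ : equalizer ((g ≫ prod.fst) ≫ a) ((g ≫ prod.snd) ≫ b) ⟶ pullback a b :=
    pullback.lift (equalizer.ι _ _ ≫ g ≫ prod.fst) (equalizer.ι _ _ ≫ g ≫ prod.snd)
      (by simpa only [Category.assoc] using equalizer.condition ((g ≫ prod.fst) ≫ a) ((g ≫ prod.snd) ≫ b))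
  let i : pullback a b ⟶ K ⨯ L := prod.lift (pullback.fst a b) (pullback.snd a b)
  have h₁ : pullback.snd i g ≫ g ≫ prod.fst = pullback.fst i g ≫ pullback.fst a b := by
    rw [← pullback.condition_assoc, prod.lift_fst]
  have h₂ : pullback.snd i g ≫ g ≫ prod.snd = pullback.fst i g ≫ pullback.snd a b := by
    rw [← pullback.condition_assoc, prod.lift_snd]
  let t : pullback i g ⟶ equalizer ((g ≫ prod.fst) ≫ a) ((g ≫ prod.snd) ≫ b) :=
    equalizer.lift (pullback.snd i g) (by
      simp only [Category.assoc]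
      rw [reassoc_of% h₁, reassoc_of% h₂, pullback.condition])
  have := epi_pullback_fst i g
  have : Epi φ := by
    refine epi_of_epi_fac (show t ≫ φ = pullback.fst i g from ?_)
    apply pullback.hom_ext
    · simp only [φ, Category.assoc, pullback.lift_fst]
      rw [← Category.assoc t, equalizer.lift_ι, h₁]
    · simp only [φ, Category.assoc, pullback.lift_snd]
      rw [← Category.assoc t, equalizer.lift_ι, h₂]
  exact Covd.of_epi ⟨R', hR', g', hg'⟩ φ

lemma QcGenHyp.good_top : Good S (⊤_ (Sh J)) := by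
  obtain ⟨K, hK, hK'⟩ := h.top
  refine ⟨⟨K, hK, terminal.from K, hK'⟩, fun K hK L hL a b => ?_⟩
  obtain ⟨R, g, hR, hg⟩ := h.prod K hK L hL
  let φ : K ⨯ L ⟶ pullback a b := pullback.lift prod.fst prod.snd (Subsingleton.elim _ _)
  have : Epi φ := by
    refine epi_of_epi_fac (show prod.lift (pullback.fst a b) (pullback.snd a b) ≫ φ = 𝟙 _ from ?_)
    apply pullback.hom_ext <;>
      simp only [φ, Category.assoc, pullback.lift_fst, pullback.lift_snd, prod.lift_fst, prod.lift_snd,
        Category.id_comp]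
  exact Covd.of_epi ⟨R, hR, g, hg⟩ φ

omit h in
lemma epi_pullback_lift {A B X Y Z : Sh J} (p : A ⟶ X) (q : B ⟶ Y) [Epi p] [Epi q] (a : X ⟶ Z)
    (b : Y ⟶ Z) (ψ : pullback (p ≫ a) (q ≫ b) ⟶ pullback a b)
    (h₁ : ψ ≫ pullback.fst a b = pullback.fst _ _ ≫ p)
    (h₂ : ψ ≫ pullback.snd a b = pullback.snd _ _ ≫ q) : Epi ψ := by
  let f₁ := pullback.fst (pullback.fst a b) p
  have hf₁ : Epi f₁ := epi_pullback_fst _ p
  let f₂ := pullback.fst (f₁ ≫ pullback.snd a b) q
  have hf₂ : Epi f₂ := epi_pullback_fst _ q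
  have c₁ : (f₂ ≫ pullback.snd (pullback.fst a b) p) ≫ p = (f₂ ≫ f₁) ≫ pullback.fst a b := by
    rw [Category.assoc, Category.assoc, ← pullback.condition]
  have c₂ : pullback.snd (f₁ ≫ pullback.snd a b) q ≫ q = (f₂ ≫ f₁) ≫ pullback.snd a b := by
    rw [← pullback.condition, Category.assoc]
  let t := pullback.lift (f := p ≫ a) (g := q ≫ b) (f₂ ≫ pullback.snd (pullback.fst a b) p)
    (pullback.snd (f₁ ≫ pullback.snd a b) q)
    (by rw [← Category.assoc, c₁, ← Category.assoc _ q b, c₂, Category.assoc _ _ a,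
      Category.assoc _ _ b, pullback.condition])
  refine epi_of_epi_fac (show t ≫ ψ = f₂ ≫ f₁ from ?_)
  apply pullback.hom_ext
  · rw [Category.assoc, h₁, ← Category.assoc, pullback.lift_fst, c₁]
  · rw [Category.assoc, h₂, ← Category.assoc, pullback.lift_snd, c₂]

lemma QcGenHyp.covd_pullback_prod {A B K L : Sh J} (hA : A ∈ S) (hB : B ∈ S) (hK : K ∈ S)
    (hL : L ∈ S) (a : A ⟶ K ⨯ L) (b : B ⟶ K ⨯ L) : Covd S (pullback a b) := by
  obtain ⟨R, hR, g, hg⟩ := (h.good_mem hK).2 A hA B hB (a ≫ prod.fst) (b ≫ prod.fst)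
  let l₁ := (g ≫ pullback.fst _ _) ≫ a ≫ prod.snd
  let l₂ := (g ≫ pullback.snd _ _) ≫ b ≫ prod.snd
  obtain ⟨R', g', hR', hg'⟩ := h.eq R hR L hL l₁ l₂
  let φ : equalizer l₁ l₂ ⟶ pullback a b :=
    pullback.lift (equalizer.ι l₁ l₂ ≫ g ≫ pullback.fst _ _)
      (equalizer.ι l₁ l₂ ≫ g ≫ pullback.snd _ _) (by
        apply Limits.prod.hom_ext
        · simp only [Category.assoc]
          rw [pullback.condition (f := a ≫ prod.fst) (g := b ≫ prod.fst)]
        · have := equalizer.condition l₁ l₂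
          simpa only [l₁, l₂, Category.assoc] using this)
  let i : pullback a b ⟶ pullback (a ≫ prod.fst) (b ≫ prod.fst) :=
    pullback.lift (pullback.fst a b) (pullback.snd a b) (by rw [pullback.condition_assoc])
  have h₁ : (pullback.snd i g ≫ g) ≫ pullback.fst _ _ = pullback.fst i g ≫ pullback.fst a b := by
    rw [← pullback.condition, Category.assoc, pullback.lift_fst]
  have h₂ : (pullback.snd i g ≫ g) ≫ pullback.snd _ _ = pullback.fst i g ≫ pullback.snd a b := by
    rw [← pullback.condition, Category.assoc, pullback.lift_snd]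
  let t : pullback i g ⟶ equalizer l₁ l₂ := equalizer.lift (pullback.snd i g) (by
    simp only [l₁, l₂, ← Category.assoc]
    rw [h₁, h₂, Category.assoc _ _ a, Category.assoc _ _ b, pullback.condition])
  have hfst : Epi (pullback.fst i g) := epi_pullback_fst i g
  have : Epi φ := by
    refine epi_of_epi_fac (show t ≫ φ = pullback.fst i g from ?_)
    apply pullback.hom_ext
    · rw [Category.assoc, pullback.lift_fst, ← Category.assoc, equalizer.lift_ι, ← Category.assoc,
        h₁]
    · rw [Category.assoc, pullback.lift_snd, ← Category.assoc, equalizer.lift_ι, ← Category.assoc,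
        h₂]
  exact Covd.of_epi ⟨R', hR', g', hg'⟩ φ

lemma QcGenHyp.good_pullback {X Y Z : Sh J} (a : X ⟶ Z) (b : Y ⟶ Z) (hX : Good S X)
    (hY : Good S Y) (hZ : Good S Z) : Good S (pullback a b) := by
  refine ⟨?_, fun K hK L hL u v => ?_⟩
  · obtain ⟨A, hA, p, hp⟩ := hX.1
    obtain ⟨B, hB, q, hq⟩ := hY.1
    let ψ : pullback (p ≫ a) (q ≫ b) ⟶ pullback a b :=
      pullback.lift (pullback.fst _ _ ≫ p) (pullback.snd _ _ ≫ q)
        (by rw [Category.assoc, Category.assoc, pullback.condition])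
    have : Epi ψ := epi_pullback_lift p q a b ψ (pullback.lift_fst _ _ _) (pullback.lift_snd _ _ _)
    exact Covd.of_epi (hZ.2 A hA B hB _ _) ψ
  · obtain ⟨R₁, hR₁, p₁, hp₁⟩ := hX.2 K hK L hL (u ≫ pullback.fst a b) (v ≫ pullback.fst a b)
    obtain ⟨R₂, hR₂, p₂, hp₂⟩ := hY.2 K hK L hL (u ≫ pullback.snd a b) (v ≫ pullback.snd a b)
    let j₁ : pullback (u ≫ pullback.fst a b) (v ≫ pullback.fst a b) ⟶ K ⨯ L :=
      prod.lift (pullback.fst _ _) (pullback.snd _ _)
    let j₂ : pullback (u ≫ pullback.snd a b) (v ≫ pullback.snd a b) ⟶ K ⨯ L :=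
      prod.lift (pullback.fst _ _) (pullback.snd _ _)
    let ψ : pullback (p₁ ≫ j₁) (p₂ ≫ j₂) ⟶ pullback j₁ j₂ :=
      pullback.lift (pullback.fst _ _ ≫ p₁) (pullback.snd _ _ ≫ p₂)
        (by rw [Category.assoc, Category.assoc, pullback.condition])
    have hψ : Epi ψ :=
      epi_pullback_lift p₁ p₂ j₁ j₂ ψ (pullback.lift_fst _ _ _) (pullback.lift_snd _ _ _)
    have hf : pullback.fst j₁ j₂ ≫ pullback.fst _ _ = pullback.snd j₁ j₂ ≫ pullback.fst _ _ := by
      have := pullback.condition (f := j₁) (g := j₂) =≫ prod.fst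
      simpa only [j₁, j₂, Category.assoc, prod.lift_fst] using this
    have hs : pullback.fst j₁ j₂ ≫ pullback.snd _ _ = pullback.snd j₁ j₂ ≫ pullback.snd _ _ := by
      have := pullback.condition (f := j₁) (g := j₂) =≫ prod.snd
      simpa only [j₁, j₂, Category.assoc, prod.lift_snd] using this
    let χ : pullback j₁ j₂ ⟶ pullback u v :=
      pullback.lift (pullback.fst j₁ j₂ ≫ pullback.fst _ _)
        (pullback.fst j₁ j₂ ≫ pullback.snd _ _) (by
          apply pullback.hom_ext
          · simp only [Category.assoc]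
            rw [pullback.condition (f := u ≫ pullback.fst a b) (g := v ≫ pullback.fst a b)]
          · rw [hs, hf]
            simp only [Category.assoc]
            rw [pullback.condition (f := u ≫ pullback.snd a b) (g := v ≫ pullback.snd a b)])
    let s : pullback u v ⟶ pullback j₁ j₂ := pullback.lift
      (pullback.lift (pullback.fst u v) (pullback.snd u v) (by rw [pullback.condition_assoc]))
      (pullback.lift (pullback.fst u v) (pullback.snd u v) (by rw [pullback.condition_assoc]))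
      (by apply Limits.prod.hom_ext <;>
        simp only [j₁, j₂, Category.assoc, prod.lift_fst, prod.lift_snd, pullback.lift_fst,
          pullback.lift_snd])
    have hχ : Epi χ := by
      refine epi_of_epi_fac (show s ≫ χ = 𝟙 _ from ?_)
      apply pullback.hom_ext <;>
        simp only [s, χ, Category.assoc, pullback.lift_fst, pullback.lift_snd,
          pullback.lift_fst_assoc, Category.id_comp]
    exact ((h.covd_pullback_prod hR₁ hR₂ hK hL (p₁ ≫ j₁) (p₂ ≫ j₂)).of_epi ψ).of_epi χ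

lemma QcGenHyp.isQC {X : Sh J} (hX : Good S X) : IsQC X := by
  obtain ⟨K, hK, p, hp⟩ := hX.1
  refine isQC_of_epi p (isQC_iff.2 fun ι F π hπ => ?_)
  obtain ⟨t, ht⟩ := h.qc K hK ι F π fun U s => ⟨_, hπ.liftSieve_mem s, fun V g hg => hg⟩
  refine ⟨t, isEpiFam_of_liftSieve_mem fun U s => ?_⟩
  obtain ⟨T, hT, hT'⟩ := ht U s
  exact J.superset_covering (fun V g hg => hT' V g hg) hT

/-- The class of sheaves attached to the hypotheses. -/
noncomputable def qcGenClass : CohClass J where
  mem := MemOf (Good S)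
  cov _ _ L f := (∀ k, MemOf (Good S) (L k)) ∧ JLS J f
  cov_jls _ hf := hf.2
  cov_mem _ hf := hf.1
  cov_comp f hP hf := mem_comp (T := Good S) (fun _ _ _ a b hK hL hM =>
    ⟨pullback a b, pullback.fst a b, pullback.snd a b, h.good_pullback a b hK hL hM,
      IsPullback.of_hasPullback a b⟩) hP f hf.1
  refine_cov {P} hP {β} N M π hdir y hy := by
    obtain ⟨X, hX, ⟨e⟩⟩ := hP
    let g : X ⟶ N := shHom (e.inv ≫ y)
    have hfam : IsEpiFam (fun b => pullback.fst g (shHom (π b))) := by
      refine isEpiFam_of_liftSieve_mem fun U s => J.superset_covering ?_ (hy U (e.inv.app (op U) s))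
      rintro V q ⟨b, t, ht⟩
      have ht' : g.hom.app (op V) (X.obj.map q.op s) = (shHom (π b)).hom.app (op V) t :=
        ((NatTrans.naturality_apply (e.inv ≫ y) q.op s).trans ht.symm)
      obtain ⟨x, hx, -⟩ := exists_section_of_isPullback
        (IsPullback.of_hasPullback g (shHom (π b))) (X.obj.map q.op s) t ht'
      exact ⟨b, x, hx⟩
    obtain ⟨n, σ, hσ⟩ := exists_finite_subfamily (h.isQC hX) hfam
    cases n with
    | zero =>
      refine ⟨0, fun k => k.elim0, fun k => k.elim0, ⟨fun k => k.elim0, fun U s => ?_⟩,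
        fun k => k.elim0⟩
      refine J.superset_covering ?_ (hσ.liftSieve_mem (e.hom.app (op U) s))
      rintro V q ⟨k, -⟩
      exact k.elim0
    | succ n =>
      have bound : ∀ (m : ℕ) (τ : Fin (m + 1) → β), ∃ b₀, ∀ k,
          ∃ s : (M (τ k)).obj ⟶ (M b₀).obj, s ≫ π b₀ = π (τ k) := by
        intro m
        induction m with
        | zero => exact fun τ => ⟨τ 0, fun k => by fin_cases k; exact ⟨𝟙 _, Category.id_comp _⟩⟩
        | succ m ih =>
          intro τ
          obtain ⟨b₁, hb₁⟩ := ih fun k => τ k.succ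
          obtain ⟨b₀, s, s', hs, hs'⟩ := hdir (τ 0) b₁
          refine ⟨b₀, Fin.cases ⟨s, hs⟩ fun k => ?_⟩
          obtain ⟨r, hr⟩ := hb₁ k
          exact ⟨r ≫ s', by rw [Category.assoc, hs', hr]⟩
      obtain ⟨b₀, hb₀⟩ := bound n σ
      have : Epi (pullback.fst g (shHom (π b₀))) := by
        refine (hσ.of_fac (ρ := fun _ : Unit => pullback.fst g (shHom (π b₀))) fun k => ?_).epi
        obtain ⟨s, hs⟩ := hb₀ k
        refine ⟨(), pullback.lift (pullback.fst _ _) (pullback.snd _ _ ≫ shHom s) ?_,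
          pullback.lift_fst _ _ _⟩
        rw [pullback.condition, Category.assoc]
        exact congrArg _ (Sheaf.hom_ext hs.symm)
      obtain ⟨K, hK, p, hp⟩ := hX.1
      obtain ⟨K', k, hK', hk⟩ := h.refine_epi _ K (pullback.fst p (pullback.fst g (shHom (π b₀))))
        hK (epi_pullback_fst _ _)
      let ρ : K' ⟶ X := (k ≫ pullback.fst _ _) ≫ p
      refine ⟨1, fun _ => K'.obj, fun _ => ρ.hom ≫ e.inv,
        ⟨fun _ => ⟨K', h.good_mem hK', ⟨Iso.refl _⟩⟩, fun U s => ?_⟩,
        fun _ => ⟨b₀, (k ≫ pullback.snd _ _ ≫ pullback.snd g (shHom (π b₀))).hom, ?_⟩⟩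
      · refine J.superset_covering ?_
          ((isEpiFam_of_epi ρ).liftSieve_mem (e.hom.app (op U) s))
        rintro V q ⟨i, t, ht⟩
        refine ⟨0, t, ?_⟩
        refine (congrArg (e.inv.app (op V)) ht).trans ?_
        rw [e.inv.naturality_apply, Iso.hom_inv_id_app_apply]
      · have h1 := congrArg (fun φ : K' ⟶ N => φ.hom)
          (show (k ≫ pullback.snd _ _ ≫ pullback.snd g (shHom (π b₀))) ≫ shHom (π b₀) = ρ ≫ g by
            simp only [ρ, Category.assoc, ← pullback.condition]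
            rw [← pullback.condition_assoc])
        exact h1.trans (Category.assoc _ _ _).symm

/-- Cohomology on the site commutes with filtered colimits. -/
theorem QcGenHyp.preservesColimitsOfShape_functorH (I : Type u) [SmallCategory I] [IsFiltered I]
    (n : ℕ) : PreservesColimitsOfShape I
      (Sheaf.functorH J n : Sheaf J AddCommGrpCat.{u} ⥤ AddCommGrpCat.{u}) :=
  preservesColimitsOfShape_of_elementwise _
    (((qcGenClass h).extComm (P := (⊤_ (Sh J)).obj) ⟨_, h.good_top, ⟨Iso.refl _⟩⟩ n).of_iso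
      constFreeTerminalIso)

end Groth.Agent.CohColim46
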