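import Groth.Agent.CohColim46.Main
import Groth.Agent.Topos46.Algebraic
import Groth.Agent.Topos46.Qc

/-!
Quasi-compact generators stable under fibre products give a class with finite coverings.
-/

universe u

open CategoryTheory CategoryTheory.Limits Opposite ToposFin Groth.Agent.Topos46

namespace Groth.Agent.CohColim46

variable {C : Type u} [SmallCategory C] {J : GrothendieckTopology C} (T : Sh J → Prop)

/-- A presheaf isomorphic to a member. -/
def MemOf (P : Cᵒᵖ ⥤ Type u) : Prop := ∃ K : Sh J, T K ∧ Nonempty (P ≅ K.obj)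

/-- The map of sheaves underlying a map of presheaves. -/
abbrev shHom {K L : Sh J} (φ : K.obj ⟶ L.obj) : K ⟶ L := ⟨φ⟩

variable {T} (hgen : GenBy T) (hqc : ∀ K, T K → IsQC K)
  (hpb : ∀ ⦃K L M : Sh J⦄ (a : K ⟶ M) (b : L ⟶ M), T K → T L → T M →
    ∃ (Q : Sh J) (p : Q ⟶ K) (q : Q ⟶ L), T Q ∧ IsPullback p q a b)

include hpb in
lemma mem_comp {P : Cᵒᵖ ⥤ Type u} (hP : MemOf T P) {m : ℕ} {L : Fin m → Cᵒᵖ ⥤ Type u}
    (f : ∀ k, L k ⟶ P) (hL : ∀ k, MemOf T (L k)) :
    ∀ (n : ℕ) (a : Fin (n + 1) → Fin m), MemOf T (comp f a) := by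
  intro n
  induction n with
  | zero =>
    intro a
    obtain ⟨K, hK, ⟨e⟩⟩ := hL (a 0)
    refine ⟨K, hK, ⟨NatIso.ofComponents (fun V => Equiv.toIso
      { toFun := fun x => x.1 0
        invFun := fun l => ⟨Fin.cons (α := fun j => (L (a j)).obj V) l (fun j => j.elim0),
          fun i j => by fin_cases i; fin_cases j; rfl⟩
        left_inv := fun x => Subtype.ext (funext fun j => by fin_cases j; rfl)
        right_inv := fun l => rfl }) (fun g => rfl) ≪≫ e⟩⟩
  | succ n ih =>
    intro a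
    obtain ⟨K₁, hK₁, ⟨e₁⟩⟩ := hL (a 0)
    obtain ⟨K₂, hK₂, ⟨e₂⟩⟩ := ih (fun j => a j.succ)
    obtain ⟨M, hM, ⟨e⟩⟩ := hP
    let u₁ : comp f (fun j => a j.succ) ⟶ P :=
      { app := fun V => ↾fun x => (f (a (Fin.succ 0))).app V (x.1 0)
        naturality := fun V W g => by
          apply ConcreteCategory.hom_ext
          intro x
          exact (f _).naturality_apply g _ }
    let A : K₁ ⟶ M := shHom (e₁.inv ≫ f (a 0) ≫ e.hom)
    let B : K₂ ⟶ M := shHom (e₂.inv ≫ u₁ ≫ e.hom)
    obtain ⟨Q, p, q, hQ, sq⟩ := hpb A B hK₁ hK₂ hM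
    let fst : comp f a ⟶ K₁.obj :=
      { app := fun V => ↾(fun x => x.1 0)
        naturality := fun _ _ _ => rfl : comp f a ⟶ L (a 0) } ≫ e₁.hom
    let snd : comp f a ⟶ K₂.obj :=
      { app := fun V => ↾(fun x => ⟨fun j => x.1 j.succ, fun i j => x.2 _ _⟩)
        naturality := fun _ _ _ => rfl : comp f a ⟶ comp f (fun j => a j.succ) } ≫ e₂.hom
    have hw : fst ≫ A.hom = snd ≫ B.hom := by
      simp only [fst, snd, A, B, Category.assoc, Iso.hom_inv_id_assoc]
      ext V x
      exact congrArg (e.hom.app V) (x.2 0 (Fin.succ 0))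
    have sq' := sq.map (sheafToPresheaf J (Type u))
    let ψ : comp f a ⟶ Q.obj := sq'.lift fst snd hw
    have hψ₁ : ψ ≫ p.hom = fst := sq'.lift_fst _ _ _
    have hψ₂ : ψ ≫ q.hom = snd := sq'.lift_snd _ _ _
    suffices ∀ V, IsIso (ψ.app V) from ⟨Q, hQ, ⟨@asIso _ _ _ _ ψ (NatIso.isIso_of_isIso_app ψ)⟩⟩
    intro V
    have sqV := isPullback_app sq V
    have key : ∀ x, p.hom.app V (ψ.app V x) = e₁.hom.app V (x.1 0) ∧
        q.hom.app V (ψ.app V x) = e₂.hom.app V ⟨fun j => x.1 j.succ, fun i j => x.2 _ _⟩ :=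
      fun x => ⟨ConcreteCategory.congr_hom (NatTrans.congr_app hψ₁ V) x,
        ConcreteCategory.congr_hom (NatTrans.congr_app hψ₂ V) x⟩
    refine (isIso_iff_bijective _).2 ⟨fun x y hxy => ?_, fun z => ?_⟩
    · have h1 := (key x).1.symm.trans ((congrArg (p.hom.app V) hxy).trans (key y).1)
      have h2 := (key x).2.symm.trans ((congrArg (q.hom.app V) hxy).trans (key y).2)
      have h1' := ((isIso_iff_bijective (e₁.hom.app V)).1 inferInstance).1 h1
      have h2' := ((isIso_iff_bijective (e₂.hom.app V)).1 inferInstance).1 h2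
      refine Subtype.ext (funext fun j => Fin.cases h1' (fun i => ?_) j)
      exact congrFun (congrArg Subtype.val h2') i
    · let y := e₂.inv.app V (q.hom.app V z)
      let l := e₁.inv.app V (p.hom.app V z)
      have hly : (f (a 0)).app V l = (f (a (Fin.succ 0))).app V (y.1 0) := by
        have := ConcreteCategory.congr_hom
          (NatTrans.congr_app (congrArg (fun φ => φ.hom) sq.w) V) z
        exact ((isIso_iff_bijective (e.hom.app V)).1 inferInstance).1 this
      have hx : ∀ i j : Fin (n + 1 + 1),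
          (f (a i)).app V (Fin.cons (α := fun j => (L (a j)).obj V) l y.1 i) =
            (f (a j)).app V (Fin.cons (α := fun j => (L (a j)).obj V) l y.1 j) := by
        have : ∀ i, (f (a i)).app V (Fin.cons (α := fun j => (L (a j)).obj V) l y.1 i) =
            (f (a 0)).app V l := fun i => by
          refine Fin.cases ?_ (fun i' => ?_) i
          · rfl
          · exact (y.2 i' 0).trans hly.symm
        exact fun i j => (this i).trans (this j).symm
      refine ⟨⟨_, hx⟩, Types.ext_of_isPullback sqV ?_ ?_⟩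
      · exact (key _).1.trans (Iso.inv_hom_id_app_apply e₁ V _)
      · exact (key _).2.trans (Iso.inv_hom_id_app_apply e₂ V _)

/-- The class attached to generators which are quasi-compact and stable under fibre products. -/
noncomputable def toposClass : CohClass J where
  mem := MemOf T
  cov _ _ L f := (∀ k, MemOf T (L k)) ∧ JLS J f
  cov_jls _ h := h.2
  cov_mem _ h := h.1
  cov_comp f hP h := mem_comp hpb hP f h.1
  refine_cov {P} hP {β} N M π _ y hy := by
    obtain ⟨K, hK, ⟨e⟩⟩ := hP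
    let g : K ⟶ N := shHom (e.inv ≫ y)
    have hfam : IsEpiFam (fun b => pullback.fst g (shHom (π b))) := by
      refine isEpiFam_of_liftSieve_mem fun U s => J.superset_covering ?_ (hy U (e.inv.app (op U) s))
      rintro V h ⟨b, t, ht⟩
      have ht' : g.hom.app (op V) (K.obj.map h.op s) = (shHom (π b)).hom.app (op V) t :=
        ((NatTrans.naturality_apply (e.inv ≫ y) h.op s).trans ht.symm)
      obtain ⟨x, hx, -⟩ := exists_section_of_isPullback
        (IsPullback.of_hasPullback g (shHom (π b))) (K.obj.map h.op s) t ht'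
      exact ⟨b, x, hx⟩
    obtain ⟨n, W, ρ, σ, l, hW, hρ, hl⟩ := hgen.exists_finite_refinement (hqc K hK) hfam
    refine ⟨n, fun k => (W k).obj, fun k => (ρ k).hom ≫ e.inv,
      ⟨fun k => ⟨W k, hW k, ⟨Iso.refl _⟩⟩, fun U s => ?_⟩,
      fun k => ⟨σ k, (l k ≫ pullback.snd _ _).hom, ?_⟩⟩
    · refine J.superset_covering ?_ (hρ.liftSieve_mem (e.hom.app (op U) s))
      rintro V h ⟨k, t, ht⟩
      refine ⟨k, t, ?_⟩
      refine (congrArg (e.inv.app (op V)) ht).trans ?_
      rw [e.inv.naturality_apply, Iso.hom_inv_id_app_apply]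
    · have h1 := congrArg (fun φ : W k ⟶ N => φ.hom)
        (show (l k ≫ pullback.snd g (shHom (π (σ k)))) ≫ shHom (π (σ k)) = ρ k ≫ g by
          rw [← hl k, Category.assoc, Category.assoc, pullback.condition])
      exact h1.trans (Category.assoc _ _ _).symm

variable {hgen hqc hpb}

lemma mem_toposClass {K : Sh J} (hK : T K) : (toposClass hgen hqc hpb).mem K.obj :=
  ⟨K, hK, ⟨Iso.refl _⟩⟩

/-- Cohomology with respect to a member commutes with filtered colimits. -/
theorem extComm_sheaf (hgen : GenBy T) (hqc : ∀ K, T K → IsQC K)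
    (hpb : ∀ ⦃K L M : Sh J⦄ (a : K ⟶ M) (b : L ⟶ M), T K → T L → T M →
      ∃ (Q : Sh J) (p : Q ⟶ K) (q : Q ⟶ L), T Q ∧ IsPullback p q a b)
    {I : Type u} [SmallCategory I] [IsFiltered I] {K : Sh J} (hK : T K) (n : ℕ) :
    ExtComm I (CohClass.fsh J K.obj) n :=
  (toposClass hgen hqc hpb).extComm (mem_toposClass hK) n

end Groth.Agent.CohColim46
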